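import Mathlib
import Cfsg.Agent.TwoFusion.SLTwoFacts
import Cfsg.Agent.ClassicalGeometry.PSL2Basic
import Cfsg.Agent.ClassificationK.GF2Basics
import Cfsg.Agent.BpHecke.Norm
import Cfsg.Agent.H952.F4.Scott_m3
import Cfsg.Agent.S0813
import Cfsg.Agent.Lib.NormalAbelian
import Cfsg.Agent.S2904
import Cfsg.Agent.S1063
import Cfsg.Agent.S1066
import Cfsg.Agent.Lib.GenFitting
import Cfsg.Agent.R2.H28.SL2.ExtY_m3
import Cfsg.Agent.FastGrp
import Cfsg.Agent.Prune
set_option linter.all false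

section
prune_inst 0x7fbeecfbafe8bddfffff7e3faedddffdf1e98fffa6dff9cbffe8e1bfab5f230289e56b8d0fe058fc1ed7e21410b87853fb7eceffe86bd87ffffd5ff41ffbee1fe5f7b50851d4883c0f3c6fff83f0778e7f3fffffffffffffffffffffffffffaeffbfffffffff

-- part: R2/H9/E6/PslF
section
prune_inst 0x4110045017400000000040512200000e1670005920060000000a4004805c9876009002901b2303412008aa20440380048120000304040000000000400011801a080884202a348210c200001800084000000000000000000000000000000010004000000000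
set_option linter.all false
open scoped Cfsg.Agent.FastGrp

/-!
# S5749, S5750: facts on `PSL₂(K)` (helper9)

* `psl_simple`, `psl_perfect`, `psl_noncomm`, `psl_center`;
* `psl_no_two` : no non-trivial homomorphisms `PSL₂(K) → GL₂(E)`, characteristic not 2;
* `four_le_of_genFitting` : `F*(X) ≅ PSL₂(K)` implies `|K| ≥ 4`;
* `card_mulAut_psl`.
-/

set_option autoImplicit false

namespace Cfsg.Agent.R2.H9.E6

open Cfsg Matrix

universe u v

variable {K : Type v} [Field K]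

/-- the projection `SL₂(K) → PSL₂(K)` -/
noncomputable def pq : _root_.Matrix.SpecialLinearGroup (Fin 2) K →* ProjectiveSpecialLinearGroup (Fin 2) K :=
  QuotientGroup.mk' _

theorem pq_surjective : Function.Surjective (pq (K := K)) := QuotientGroup.mk'_surjective _

theorem pq_eq_one {g : _root_.Matrix.SpecialLinearGroup (Fin 2) K} : pq g = 1 ↔ g = 1 ∨ g = -1 := by
  rw [← ClassicalGeometry.PSL2Basic.mem_center_SL2_iff]
  exact QuotientGroup.eq_one_iff g

theorem psl_simple [Fintype K] (h : 4 ≤ Fintype.card K) : IsSimpleGroup (ProjectiveSpecialLinearGroup (Fin 2) K) :=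
  TwoFusion.SLTwoFacts.isSimpleGroup_psl (by omega)

theorem psl_perfect [Fintype K] (h : 4 ≤ Fintype.card K) :
    commutator (ProjectiveSpecialLinearGroup (Fin 2) K) = ⊤ := by
  have h1 := TwoFusion.SLTwoFacts.commutator_eq_top (F := K) (by omega)
  have h2 : (commutator (_root_.Matrix.SpecialLinearGroup (Fin 2) K)).map pq = commutator (ProjectiveSpecialLinearGroup (Fin 2) K) := by
    have hr : (⊤ : Subgroup (_root_.Matrix.SpecialLinearGroup (Fin 2) K)).map pq = ⊤ := by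
      rw [← MonoidHom.range_eq_map]
      exact MonoidHom.range_eq_top.2 pq_surjective
    rw [commutator_def, commutator_def, Subgroup.map_commutator, hr]
  rw [← h2, h1, ← MonoidHom.range_eq_map]
  exact MonoidHom.range_eq_top.2 pq_surjective

/-- upper and lower unipotent elements -/
def up (t : K) : _root_.Matrix.SpecialLinearGroup (Fin 2) K := ⟨!![1, t; 0, 1], by simp [Matrix.det_fin_two]⟩
def lo (t : K) : _root_.Matrix.SpecialLinearGroup (Fin 2) K := ⟨!![1, 0; t, 1], by simp [Matrix.det_fin_two]⟩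

/-- the centre of `PSL₂(K)` is trivial -/
theorem psl_center : Subgroup.center (ProjectiveSpecialLinearGroup (Fin 2) K) = ⊥ := by
  rw [eq_bot_iff]
  intro z hz
  obtain ⟨g, rfl⟩ := pq_surjective z
  rw [Subgroup.mem_center_iff] at hz
  rw [Subgroup.mem_bot, pq_eq_one, ← ClassicalGeometry.PSL2Basic.mem_center_SL2_iff, Matrix.SpecialLinearGroup.mem_center_iff]
  have key : ∀ h : _root_.Matrix.SpecialLinearGroup (Fin 2) K, (h : Matrix (Fin 2) (Fin 2) K).trace = 2 →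
      (h : Matrix (Fin 2) (Fin 2) K) * g = g * h := by
    intro h hh
    have h1 := hz (pq h)
    rw [← map_mul, ← map_mul] at h1
    have h2 : pq ((g * h)⁻¹ * (h * g)) = 1 := by rw [map_mul, map_inv, h1, inv_mul_cancel]
    rw [pq_eq_one] at h2
    rcases h2 with h2 | h2
    · rw [inv_mul_eq_one] at h2
      exact (congrArg (fun x : _root_.Matrix.SpecialLinearGroup (Fin 2) K => (x : Matrix (Fin 2) (Fin 2) K)) h2).symm
    · have h3 : h * g = g * h * (-1) := by rw [← h2, mul_inv_cancel_left]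
      have h4 : (g⁻¹ * h * g : _root_.Matrix.SpecialLinearGroup (Fin 2) K) = h * (-1) := by
        rw [mul_assoc, h3, mul_assoc g, inv_mul_cancel_left]
      have h5 : ((g⁻¹ * h * g : _root_.Matrix.SpecialLinearGroup (Fin 2) K) : Matrix (Fin 2) (Fin 2) K).trace = 2 := by
        rw [Matrix.SpecialLinearGroup.coe_mul, Matrix.trace_mul_comm, ← Matrix.SpecialLinearGroup.coe_mul, mul_inv_cancel_left, hh]
      rw [h4] at h5
      have h6 : (h * (-1) : _root_.Matrix.SpecialLinearGroup (Fin 2) K) = -h := by simp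
      rw [h6, Matrix.SpecialLinearGroup.coe_neg, Matrix.trace_neg, hh] at h5
      have h7 : (-1 : _root_.Matrix.SpecialLinearGroup (Fin 2) K) = 1 := by
        apply Subtype.ext
        rw [Matrix.SpecialLinearGroup.coe_neg, Matrix.SpecialLinearGroup.coe_one]
        by_cases h20 : (2 : K) = 0
        · have h8 : (-1 : K) = 1 := by linear_combination -h20
          ext i j
          (revert i j; simp only [h8, _root_.Fin.forall_fin_succ, _root_.Matrix.neg_apply, _root_.IsEmpty.forall_iff, _root_.and_true, _root_.Matrix.one_apply_eq, Nat.reduceAdd, Fin.isValue, _root_.Fin.succ_zero_eq_one, _root_.ne_eq, _root_.zero_ne_one, _root_.not_false_eq_true, _root_.Matrix.one_apply_ne, _root_.neg_zero, _root_.and_self, _root_.Fin.succ_ne_zero, _root_.true_and])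
        · exfalso
          have h9 : (2 : K) * 2 = 0 := by linear_combination -h5
          rcases mul_eq_zero.1 h9 with h | h <;> exact h20 h
      rw [h7, mul_one] at h3
      exact congrArg (fun x : _root_.Matrix.SpecialLinearGroup (Fin 2) K => (x : Matrix (Fin 2) (Fin 2) K)) h3
  have hu := key (up 1) (by simp [up, Matrix.trace_fin_two]; norm_num)
  have hl := key (lo 1) (by simp [lo, Matrix.trace_fin_two]; norm_num)
  obtain ⟨a, ha⟩ : ∃ a, a = (g : Matrix (Fin 2) (Fin 2) K) 0 0 := ⟨_, rfl⟩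
  obtain ⟨b, hb⟩ : ∃ a, a = (g : Matrix (Fin 2) (Fin 2) K) 0 1 := ⟨_, rfl⟩
  obtain ⟨c, hc⟩ : ∃ a, a = (g : Matrix (Fin 2) (Fin 2) K) 1 0 := ⟨_, rfl⟩
  obtain ⟨d, hd⟩ : ∃ a, a = (g : Matrix (Fin 2) (Fin 2) K) 1 1 := ⟨_, rfl⟩
  have u0 := congrFun (congrFun hu 0) 0
  have u1 := congrFun (congrFun hu 0) 1
  have l1 := congrFun (congrFun hl 0) 0
  simp only [up, lo, Matrix.mul_apply, Fin.sum_univ_two, Matrix.of_apply, Matrix.cons_val', Matrix.cons_val_zero,
    Matrix.cons_val_one, Matrix.cons_val_fin_one, Matrix.empty_val', ← ha, ← hb, ← hc, ← hd] at u0 u1 l1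
  have hc0 : c = 0 := by linear_combination u0
  have hb0 : b = 0 := by linear_combination -l1
  have had : a = d := by linear_combination -u1
  have hdet := g.2
  rw [Matrix.det_fin_two, ← ha, ← hb, ← hc, ← hd, hb0, hc0, ← had] at hdet
  refine ⟨a, by rw [Fintype.card_fin]; linear_combination hdet, ?_⟩
  ext i j
  fin_cases i <;> fin_cases j
  · simpa using ha
  · simpa using (hb0.symm.trans hb)
  · simpa using (hc0.symm.trans hc)
  · simpa using (had.trans hd)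

theorem psl_noncomm [Fintype K] (h : 4 ≤ Fintype.card K) :
    ∃ a b : ProjectiveSpecialLinearGroup (Fin 2) K, a * b ≠ b * a := by
  by_contra hcon
  push Not at hcon
  have h1 := psl_simple h
  have h2 : Subgroup.center (ProjectiveSpecialLinearGroup (Fin 2) K) = ⊤ := by
    rw [eq_top_iff]
    intro x _
    rw [Subgroup.mem_center_iff]
    intro y
    exact hcon y x
  rw [psl_center] at h2
  exact bot_ne_top h2

/-- in characteristic not 2, `PSL₂(K)` contains a four-group -/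
theorem psl_four [Finite K] (h2 : (2 : K) ≠ 0) : ∃ a b : ProjectiveSpecialLinearGroup (Fin 2) K,
    a * a = 1 ∧ b * b = 1 ∧ (a * b) * (a * b) = 1 ∧ a ≠ 1 ∧ b ≠ 1 ∧ a * b ≠ 1 := by
  obtain ⟨p, hp⟩ := CharP.exists K
  have hp0 : p ≠ 0 := CharP.char_ne_zero_of_finite K p
  have : NeZero p := ⟨hp0⟩
  obtain ⟨m, n, hmn⟩ := CharP.sq_add_sq K p (-1)
  obtain ⟨x, hx⟩ : ∃ x : K, x = m := ⟨_, rfl⟩
  obtain ⟨y, hy⟩ : ∃ x : K, x = n := ⟨_, rfl⟩
  rw [← hx, ← hy] at hmn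
  push_cast at hmn
  let w : _root_.Matrix.SpecialLinearGroup (Fin 2) K := ⟨!![0, 1; -1, 0], by simp [Matrix.det_fin_two]⟩
  let z : _root_.Matrix.SpecialLinearGroup (Fin 2) K := ⟨!![x, y; y, -x], by
    rw [Matrix.det_fin_two]
    simp only [Matrix.of_apply, Matrix.cons_val', Matrix.cons_val_zero, Matrix.cons_val_one, Matrix.cons_val_fin_one,
      Matrix.empty_val']
    linear_combination -hmn⟩
  have sq : ∀ g : _root_.Matrix.SpecialLinearGroup (Fin 2) K, (g : Matrix (Fin 2) (Fin 2) K).trace = 0 → g * g = -1 := by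
    intro g hg
    rw [← pow_two]
    exact ClassicalGeometry.PSL2Basic.sl2_sq_of_trace_zero hg
  have hw : w * w = -1 := sq w (by simp [w, Matrix.trace_fin_two])
  have hz : z * z = -1 := sq z (by simp [z, Matrix.trace_fin_two])
  have hwz : (w * z) * (w * z) = -1 := by
    refine sq _ ?_
    rw [Matrix.trace_fin_two, Matrix.SpecialLinearGroup.coe_mul]
    simp [w, z, Matrix.mul_apply, Fin.sum_univ_two]
  have h11 : (-1 : _root_.Matrix.SpecialLinearGroup (Fin 2) K) ≠ 1 := ClassicalGeometry.PSL2Basic.neg_one_ne_one_SL2 h2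
  have hne : ∀ g : _root_.Matrix.SpecialLinearGroup (Fin 2) K, g * g = -1 → pq g ≠ 1 := by
    intro g hg h
    rcases pq_eq_one.1 h with rfl | rfl
    · exact h11 (by rw [← hg, one_mul])
    · exact h11 (by rw [← hg]; simp)
  have hone : ∀ g : _root_.Matrix.SpecialLinearGroup (Fin 2) K, g * g = -1 → pq g * pq g = 1 := by
    intro g hg
    rw [← map_mul, hg]
    exact pq_eq_one.2 (Or.inr rfl)
  refine ⟨pq w, pq z, hone w hw, hone z hz, ?_, hne w hw, hne z hz, ?_⟩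
  · rw [← map_mul]
    exact hone _ hwz
  · rw [← map_mul]
    exact hne _ hwz

/-- in characteristic not 2, `PSL₂(K)` has no non-trivial 2-dimensional representation -/
theorem psl_no_two [Fintype K] (h4 : 4 ≤ Fintype.card K) (h2 : (2 : K) ≠ 0) {E : Type u} [Field E] (h2' : (2 : E) ≠ 0)
    (θ : ProjectiveSpecialLinearGroup (Fin 2) K →* GL (Fin 2) E) : ∀ a, θ a = 1 := by
  have hsim := psl_simple h4
  have hperf := psl_perfect h4
  rcases (MonoidHom.normal_ker θ).eq_bot_or_eq_top with h | h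
  · exfalso
    have hinj : ∀ a, θ a = 1 → a = 1 := fun a ha => by
      have : a ∈ θ.ker := ha
      rwa [h, Subgroup.mem_bot] at this
    have hdet : ∀ g, ((θ g : GL (Fin 2) E) : Matrix (Fin 2) (Fin 2) E).det = 1 := by
      intro g
      have h1 : g ∈ ((Matrix.GeneralLinearGroup.det).comp θ).ker := by
        have h2 : commutator (ProjectiveSpecialLinearGroup (Fin 2) K) ≤ ((Matrix.GeneralLinearGroup.det).comp θ).ker :=
          Abelianization.commutator_subset_ker _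
        apply h2
        rw [hperf]
        exact Subgroup.mem_top _
      have h3 : Matrix.GeneralLinearGroup.det (θ g) = 1 := h1
      exact congrArg Units.val h3
    have key : ∀ g, g * g = 1 → g ≠ 1 → ((θ g : GL (Fin 2) E) : Matrix (Fin 2) (Fin 2) E) = -1 := by
      intro g hg hg1
      refine (H163.E6.Two.eq_one_or_neg h2' ?_ (hdet g)).resolve_left fun h3 => hg1 (hinj g (Units.ext h3))
      rw [← Units.val_mul, ← map_mul, hg, map_one, Units.val_one]
    obtain ⟨a, b, ha, hb, hab, ha1, hb1, hab1⟩ := psl_four h2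
    have k1 := key a ha ha1
    have k2 := key b hb hb1
    have k3 := key _ hab hab1
    rw [map_mul, Units.val_mul, k1, k2, neg_mul_neg, one_mul] at k3
    have k4 := congrFun (congrFun k3 0) 0
    rw [Matrix.one_apply_eq, Matrix.neg_apply, Matrix.one_apply_eq] at k4
    apply h2'
    linear_combination k4
  · intro a
    have : a ∈ θ.ker := by rw [h]; trivial
    exact this

/-- the generalized Fitting subgroup is not `PSL₂(2)` or `PSL₂(3)` -/
theorem four_le_of_genFitting [Fintype K] {X : Type u} [Group X] [Finite X]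
    (e : ↥(generalizedFittingSubgroup X) ≃* ProjectiveSpecialLinearGroup (Fin 2) K) : 4 ≤ Fintype.card K := by
  by_contra hlt
  have h1 : Nat.card (ProjectiveSpecialLinearGroup (Fin 2) K) ≤ 16 := by
    have h2 : Nat.card (ProjectiveSpecialLinearGroup (Fin 2) K) ≤ Nat.card (_root_.Matrix.SpecialLinearGroup (Fin 2) K) :=
      Nat.card_le_card_of_surjective _ pq_surjective
    rw [ClassicalGeometry.PSL2Basic.card_SL2] at h2
    have h3 : Fintype.card K ≤ 3 := by omega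
    by_cases h4 : Fintype.card K = 3
    · -- order 12
      have h5 : Odd (Fintype.card K) := by rw [h4]; decide
      have h6 := ClassicalGeometry.PSL2Basic.card_PSL2_odd K h5
      have h7 : Nat.card (ProjectiveSpecialLinearGroup (Fin 2) K) ≤ 12 := by
        rw [h4] at h6
        omega
      omega
    · have h5 : Fintype.card K ≤ 2 := by omega
      refine h2.trans ?_
      calc Fintype.card K * (Fintype.card K ^ 2 - 1) ≤ 2 * (2 ^ 2 - 1) :=
            Nat.mul_le_mul h5 (Nat.sub_le_sub_right (Nat.pow_le_pow_left h5 2) 1)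
        _ ≤ 16 := by norm_num
  have hsol : Group.IsSolvable (ProjectiveSpecialLinearGroup (Fin 2) K) := BpHecke.Norm.isSolvable_of_card_le h1
  have hsol' : Group.IsSolvable ↥(generalizedFittingSubgroup X) :=
    Group.isSolvable_of_isSolvable_injective (f := e.toMonoidHom) e.injective
  have h2 := ClassificationK.GF2Basics.genFitting_eq_fitting_of_isSolvable hsol'
  have hnil : Group.IsNilpotent ↥(generalizedFittingSubgroup X) := by
    rw [h2]
    exact Lib.Cores.fittingSubgroup_isNilpotent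
  have hnil' : Group.IsNilpotent (ProjectiveSpecialLinearGroup (Fin 2) K) := (Group.isNilpotent_congr e).1 hnil
  have hnt : Nontrivial (ProjectiveSpecialLinearGroup (Fin 2) K) := by
    refine ⟨pq (up 1), 1, fun h => ?_⟩
    rcases pq_eq_one.1 h with h3 | h3
    · have h4 := congrFun (congrFun (congrArg (fun x : _root_.Matrix.SpecialLinearGroup (Fin 2) K => (x : Matrix (Fin 2) (Fin 2) K)) h3) 0) 1
      simp only [up, _root_.Fin.isValue, _root_.Matrix.of_apply, _root_.Matrix.cons_val', _root_.Matrix.cons_val_one, _root_.Matrix.cons_val_fin_one, _root_.Matrix.cons_val_zero, _root_.Matrix.SpecialLinearGroup.coe_one, _root_.ne_eq, _root_.zero_ne_one, _root_.not_false_eq_true, _root_.Matrix.one_apply_ne, _root_.one_ne_zero] at h4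
    · have h4 := congrFun (congrFun (congrArg (fun x : _root_.Matrix.SpecialLinearGroup (Fin 2) K => (x : Matrix (Fin 2) (Fin 2) K)) h3) 0) 1
      simp [up] at h4
  have h3 := Lib.NormalAbelian.normal_inf_center_ne_bot (⊤ : Subgroup (ProjectiveSpecialLinearGroup (Fin 2) K))
    (by intro h; exact bot_ne_top h.symm)
  rw [psl_center, inf_bot_eq] at h3
  exact h3 rfl

/-- the order of the automorphism group -/
theorem card_mulAut_psl [Fintype K] (p a : ℕ) [Fact p.Prime] (ha : 1 ≤ a) (hK : Fintype.card K = p ^ a)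
    (h4 : 4 ≤ Fintype.card K) :
    Nat.card (MulAut (ProjectiveSpecialLinearGroup (Fin 2) K)) = a * (p ^ a * ((p ^ a) ^ 2 - 1)) := by
  have h1 := S0813.result (F := K) p a ha hK 2 le_rfl (fun _ => by rw [← hK]; exact h4)
  rw [h1, if_pos rfl, one_mul, ClassicalGeometry.PSL2Basic.card_PGL2, hK]

end Cfsg.Agent.R2.H9.E6

private theorem dce_bf1bbd52d59b : _root_.True := by
  try have : _root_.True := by simp only [_root_.Cfsg.Agent.R2.H9.E6.up.eq_1]
  try have : _root_.True := by simp only [_root_.Cfsg.Agent.R2.H9.E6.lo.eq_1]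
  exact _root_.True.intro
end

-- part: R2/H9/E6/Num
section
set_option linter.all false
open scoped Cfsg.Agent.FastGrp

/-!
# S5749, S5750: bounds for `a` in terms of `b`, from the orders (helper9)

* `bound_e6` : `PSL₂(p^a) ≤ E₆(p^b)` implies `2a ∣ b d` with `d ∈ {2,5,6,8,9,12}`, or `a = 1`, or `p = 2, a = 3`;
* `bound_tw` : `PSL₂(p^a) ≤ ²E₆(p^b)` implies `2a ∣ b d` with `d ∈ {2,6,8,10,12,18}`, or `a = 1`, or `p = 2, a = 3`.
-/

set_option autoImplicit false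

namespace Cfsg.Agent.R2.H9.E6

open Cfsg Matrix

universe u v

/-- a primitive prime divisor of `p^n - 1` which divides `p^m - 1` -/
theorem dvd_of_primitive {p r n m : ℕ} (_hp : 1 < p) (_hr : r.Prime) (h1 : r ∣ p ^ n - 1)
    (h2 : ∀ k, 0 < k → k < n → ¬ r ∣ p ^ k - 1) (hn : 0 < n) (hm : r ∣ p ^ m - 1) : n ∣ m := by
  have h3 : r ∣ p ^ (Nat.gcd n m) - 1 := by
    rw [← Nat.pow_sub_one_gcd_pow_sub_one]
    exact Nat.dvd_gcd h1 hm
  have h4 : Nat.gcd n m ≤ n := Nat.gcd_le_left _ hn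
  rcases Nat.lt_or_ge (Nat.gcd n m) n with h5 | h5
  · exact absurd h3 (h2 _ (Nat.gcd_pos_of_pos_left _ hn) h5)
  · have h6 : Nat.gcd n m = n := le_antisymm h4 h5
    rw [← h6]
    exact Nat.gcd_dvd_right _ _

theorem prime_dvd_psl {K : Type v} [Field K] [Fintype K] {q0 r : ℕ} (hK : Fintype.card K = q0) (hr : r.Prime)
    (h2 : r ≠ 2) (h : r ∣ q0 ^ 2 - 1) : r ∣ Nat.card (ProjectiveSpecialLinearGroup (Fin 2) K) := by
  have h1 := ClassicalGeometry.PSL2Basic.card_PSL2_gcd K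
  have h3 : r ∣ Fintype.card K * (Fintype.card K ^ 2 - 1) := by
    rw [hK]
    exact Dvd.dvd.mul_left h _
  rw [← h1] at h3
  rcases (Nat.Prime.dvd_mul hr).1 h3 with h4 | h4
  · first
    | exact h4
    | exact absurd ((Nat.prime_dvd_prime_iff_eq hr Nat.prime_two).1 (h4.trans (Nat.gcd_dvd_left _ _))) h2
  · first
    | exact h4
    | exact absurd ((Nat.prime_dvd_prime_iff_eq hr Nat.prime_two).1 (h4.trans (Nat.gcd_dvd_left _ _))) h2

/-- existence of a primitive prime divisor of `p^{2a} - 1` -/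
theorem exists_prim (p a : ℕ) (hp : p.Prime) (ha : 1 ≤ a) (h1 : a ≠ 1) (h3 : ¬ (p = 2 ∧ a = 3)) :
    ∃ r : ℕ, r.Prime ∧ r ≠ 2 ∧ r ≠ p ∧ r ∣ (p ^ a) ^ 2 - 1 ∧ r ∣ p ^ (2 * a) - 1 ∧
      ∀ k, 0 < k → k < 2 * a → ¬ r ∣ p ^ k - 1 := by
  obtain ⟨r, hr, hr1, hr2⟩ := S2904.result p (2 * a) hp.one_lt (by omega) (by
    rintro ⟨h4, h5⟩
    exact h3 ⟨h4, by omega⟩) (by
    rintro ⟨h4, -⟩
    omega)
  have hrp : r ≠ p := by
    rintro rfl
    have h4 : r ∣ r ^ (2 * a) := dvd_pow_self r (by omega)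
    have h5 : 1 ≤ r ^ (2 * a) := Nat.one_le_pow _ _ hr.pos
    have h6 := (Nat.dvd_sub h4 hr1)
    rw [show r ^ (2 * a) - (r ^ (2 * a) - 1) = 1 by omega] at h6
    exact hr.one_lt.ne' (Nat.dvd_one.1 h6)
  refine ⟨r, hr, ?_, hrp, ?_, hr1, hr2⟩
  · rintro rfl
    have h4 : Odd p := hp.odd_of_ne_two (Ne.symm hrp)
    refine hr2 1 one_pos (by omega) ?_
    rw [pow_one]
    obtain ⟨k, hk⟩ := h4
    exact ⟨k, by omega⟩
  · rwa [← pow_mul, mul_comm]

theorem bound_e6 {F : Type u} [Field F] [Fintype F] {p b : ℕ} (hp : p.Prime) (hF : Fintype.card F = p ^ b)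
    {K : Type v} [Field K] [Fintype K] {a : ℕ} (ha : 1 ≤ a) (hK : Fintype.card K = p ^ a)
    {φ : ProjectiveSpecialLinearGroup (Fin 2) K →* ↥(Cfsg.Lie.chevE6.group F)} (hφ : Function.Injective φ) :
    a = 1 ∨ (p = 2 ∧ a = 3) ∨ ∃ d ∈ [2, 5, 6, 8, 9, 12], 2 * a ∣ b * d := by
  by_cases h1 : a = 1
  · exact Or.inl h1
  by_cases h3 : p = 2 ∧ a = 3
  · exact Or.inr (Or.inl h3)
  right; right
  obtain ⟨r, hr, hr2, hrp, hra, hrb, hrc⟩ := exists_prim p a hp ha h1 h3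
  have h4 := (prime_dvd_psl hK hr hr2 hra).trans (Subgroup.card_dvd_of_injective φ hφ)
  have h5 := S1063.result (F := F) hF
  have h6 := h4.trans (Dvd.intro_left _ h5)
  have key : ∀ d, r ∣ (p ^ b) ^ d - 1 → 2 * a ∣ b * d := by
    intro d hd
    rw [← pow_mul] at hd
    exact dvd_of_primitive hp.one_lt hr hrb hrc (by omega) hd
  have hq : ¬ r ∣ (p ^ b) ^ 36 := by
    intro h
    exact hrp ((Nat.prime_dvd_prime_iff_eq hr hp).1 (hr.dvd_of_dvd_pow (hr.dvd_of_dvd_pow h)))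
  simp only [Nat.Prime.dvd_mul hr] at h6
  rcases h6 with (((((h | h) | h) | h) | h) | h) | h
  · exact absurd h hq
  · exact ⟨2, by simp, key 2 h⟩
  · exact ⟨5, by simp, key 5 h⟩
  · exact ⟨6, by simp, key 6 h⟩
  · exact ⟨8, by simp, key 8 h⟩
  · exact ⟨9, by simp, key 9 h⟩
  · exact ⟨12, by simp, key 12 h⟩

theorem bound_tw {L : Type u} [Field L] [Fintype L] {p b : ℕ} (hp : p.Prime) (hb : 1 ≤ b)
    (hL : Fintype.card L = (p ^ b) ^ 2)
    {K : Type v} [Field K] [Fintype K] {a : ℕ} (ha : 1 ≤ a) (hK : Fintype.card K = p ^ a)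
    {φ : ProjectiveSpecialLinearGroup (Fin 2) K →* ↥(Cfsg.Lie.twistedE6 L (p ^ b))} (hφ : Function.Injective φ) :
    a = 1 ∨ (p = 2 ∧ a = 3) ∨ ∃ d ∈ [2, 6, 8, 10, 12, 18], 2 * a ∣ b * d := by
  by_cases h1 : a = 1
  · exact Or.inl h1
  by_cases h3 : p = 2 ∧ a = 3
  · exact Or.inr (Or.inl h3)
  right; right
  obtain ⟨r, hr, hr2, hrp, hra, hrb, hrc⟩ := exists_prim p a hp ha h1 h3
  have h4 := (prime_dvd_psl hK hr hr2 hra).trans (Subgroup.card_dvd_of_injective φ hφ)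
  have h5 := S1066.result (K := L) (hp.isPrimePow.pow (by omega)) hL
  have h6 := h4.trans (Dvd.intro_left _ h5)
  have key : ∀ d, r ∣ (p ^ b) ^ d - 1 → 2 * a ∣ b * d := by
    intro d hd
    rw [← pow_mul] at hd
    exact dvd_of_primitive hp.one_lt hr hrb hrc (by omega) hd
  have hq : ¬ r ∣ (p ^ b) ^ 36 := by
    intro h
    exact hrp ((Nat.prime_dvd_prime_iff_eq hr hp).1 (hr.dvd_of_dvd_pow (hr.dvd_of_dvd_pow h)))
  have hsq : ∀ m : ℕ, r ∣ (p ^ b) ^ m + 1 → r ∣ (p ^ b) ^ (2 * m) - 1 := by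
    intro m h
    have h7 : (p ^ b) ^ (2 * m) - 1 = ((p ^ b) ^ m + 1) * ((p ^ b) ^ m - 1) := by
      rw [mul_comm 2 m, pow_mul, ← Nat.sq_sub_sq, one_pow]
    rw [h7]
    exact Dvd.dvd.mul_right h _
  simp only [Nat.Prime.dvd_mul hr] at h6
  rcases h6 with (((((h | h) | h) | h) | h) | h) | h
  · exact absurd h hq
  · exact ⟨2, by simp, key 2 h⟩
  · exact ⟨10, by simp, key 10 (hsq 5 h)⟩
  · exact ⟨6, by simp, key 6 h⟩
  · exact ⟨8, by simp, key 8 h⟩
  · exact ⟨18, by simp, key 18 (hsq 9 h)⟩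
  · exact ⟨12, by simp, key 12 h⟩

end Cfsg.Agent.R2.H9.E6
end

-- part: R2/H9/E6/Max
section
prune_inst 0x10000000000000
set_option linter.all false
open scoped Cfsg.Agent.FastGrp

/-!
# S5749, S5750: maximal subgroups with a simple generalized Fitting subgroup (helper9)

* `MaxSimp H φ` : the data attached to a maximal subgroup `H` of a simple group `G` with `F*(H) ≅ A` simple:
  `φ : A →* G` injective, its image normal in `H` and contained in all non-trivial subgroups normal in `H`, the centralizer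
  of the image in `G` is trivial, `H` acts on `A` faithfully through `ι : H →* MulAut A`.
* `exists_maxSimp`.
* `card_le_psl` : the order of `H` for `A = PSL₂(p^a)`.
-/

set_option autoImplicit false

namespace Cfsg.Agent.R2.H9.E6

open Cfsg Subgroup

universe u v

/-- the situation of a maximal subgroup with simple generalized Fitting subgroup -/
structure MaxSimp {G : Type u} [Group G] (H : Subgroup G) {A : Type v} [Group A] (φ : A →* G) : Prop where
  coatom : IsCoatom H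
  inj : Function.Injective φ
  le : φ.range ≤ H
  norm : ∀ h ∈ H, ∀ a ∈ φ.range, h * a * h⁻¹ ∈ φ.range
  min : ∀ B : Subgroup G, B ≤ H → (∀ h ∈ H, ∀ b ∈ B, h * b * h⁻¹ ∈ B) → B ≠ ⊥ → φ.range ≤ B
  cent : ∀ z : G, (∀ a, φ a * z = z * φ a) → z = 1
  act : ∃ ι : ↥H →* MulAut A, Function.Injective ι ∧ (∀ (h : ↥H) (a : A), φ (ι h a) = (h : G) * φ a * (h : G)⁻¹) ∧
    ∀ (a : A) (ha : φ a ∈ H), ι ⟨φ a, ha⟩ = MulAut.conj a

theorem simple_noncomm {A : Type v} [Group A] [IsSimpleGroup A] (hA : ∃ a b : A, a * b ≠ b * a) :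
    Subgroup.center A = ⊥ := by
  rcases (inferInstance : (Subgroup.center A).Normal).eq_bot_or_eq_top with h | h
  · exact h
  · exfalso
    obtain ⟨a, b, hab⟩ := hA
    exact hab (Subgroup.mem_center_iff.1 (h ▸ Subgroup.mem_top b) a)

variable {G : Type u} [Group G] [Finite G]

/-- the centralizer in `G` is trivial: general argument -/
theorem cent_of_max [IsSimpleGroup G] {H : Subgroup G} (hH : IsCoatom H) {A : Type v} [Group A]
    {φ : A →* G} (hinj : Function.Injective φ) (hA : ∃ a b : A, a * b ≠ b * a) (hle : φ.range ≤ H)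
    (hnorm : ∀ h ∈ H, ∀ a ∈ φ.range, h * a * h⁻¹ ∈ φ.range)
    (hmin : ∀ B : Subgroup G, B ≤ H → (∀ h ∈ H, ∀ b ∈ B, h * b * h⁻¹ ∈ B) → B ≠ ⊥ → φ.range ≤ B)
    {z : G} (hz : ∀ a, φ a * z = z * φ a) : z = 1 := by
  set C : Subgroup G := Subgroup.centralizer (φ.range : Set G) with hC
  have memC : ∀ x, x ∈ C ↔ ∀ a, φ a * x = x * φ a := by
    intro x
    rw [hC, Subgroup.mem_centralizer_iff]
    constructor
    · intro h a; exact h _ ⟨a, rfl⟩
    · rintro h _ ⟨a, rfl⟩; exact h a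
  obtain ⟨a, b, hab⟩ := hA
  have hCn : ∀ h ∈ H, ∀ c ∈ C, h * c * h⁻¹ ∈ C := by
    intro h hh c hc
    rw [memC] at hc ⊢
    intro a
    obtain ⟨a', ha'⟩ := hnorm h⁻¹ (inv_mem hh) (φ a) ⟨a, rfl⟩
    rw [inv_inv] at ha'
    have h1 := hc a'
    rw [ha'] at h1
    calc φ a * (h * c * h⁻¹) = h * ((h⁻¹ * φ a * h) * c) * h⁻¹ := by group
      _ = h * (c * (h⁻¹ * φ a * h)) * h⁻¹ := by rw [h1]
      _ = h * c * h⁻¹ * φ a := by group
  have hfin : Finite φ.range := inferInstance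
  have hCH : C ≤ H := by
    by_contra hcon
    have h1 : H ⊔ C = ⊤ := by
      apply hH.2
      refine lt_of_le_of_ne le_sup_left fun h => hcon ?_
      rw [h]; exact le_sup_right
    have h2 : φ.range.Normal := by
      constructor
      intro x hx g
      have hg : g ∈ H ⊔ C := by rw [h1]; trivial
      have h3 : ∀ g ∈ H ⊔ C, ∀ x ∈ φ.range, g * x * g⁻¹ ∈ φ.range := by
        intro g hg
        rw [Subgroup.sup_eq_closure] at hg
        induction hg using Subgroup.closure_induction with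
        | mem y hy =>
          intro x hx
          rcases hy with hy | hy
          · exact hnorm y hy x hx
          · obtain ⟨a, rfl⟩ := hx
            have := (memC y).1 hy a
            rw [← this, mul_inv_cancel_right]
            exact ⟨a, rfl⟩
        | one => intro x hx; simpa using hx
        | mul y z _ _ hy hz =>
          intro x hx
          have := hy _ (hz x hx)
          have e : y * (z * x * z⁻¹) * y⁻¹ = y * z * x * (y * z)⁻¹ := by group
          rwa [e] at this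
        | inv y hy hy' =>
          intro x hx
          have hinj : Function.Injective fun x : φ.range => (⟨y * x.1 * y⁻¹, hy' x.1 x.2⟩ : φ.range) := by
            intro x x' h
            have h4 := congrArg Subtype.val h
            apply Subtype.ext
            simpa using h4
          obtain ⟨x', hx'⟩ := Finite.surjective_of_injective hinj ⟨x, hx⟩
          have h5 : y * x'.1 * y⁻¹ = x := congrArg Subtype.val hx'
          have h6 : y⁻¹ * x * y⁻¹⁻¹ = x'.1 := by rw [← h5]; group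
          rw [h6]
          exact x'.2
      exact h3 g hg x hx
    rcases h2.eq_bot_or_eq_top with h3 | h3
    · apply hab
      apply hinj
      have h4 : ∀ a, φ a = 1 := fun a => by
        have : φ a ∈ φ.range := ⟨a, rfl⟩
        rwa [h3, Subgroup.mem_bot] at this
      rw [h4, h4]
    · exact hH.1 (top_le_iff.1 (h3 ▸ hle))
  have hbot : C = ⊥ := by
    by_contra hcon
    have h1 := hmin C hCH hCn hcon
    apply hab
    apply hinj
    rw [map_mul, map_mul]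
    exact (memC _).1 (h1 ⟨b, rfl⟩) a
  have h1 : z ∈ C := (memC z).2 hz
  rwa [hbot, Subgroup.mem_bot] at h1

/-- **a maximal subgroup with simple generalized Fitting subgroup** -/
theorem exists_maxSimp [IsSimpleGroup G] {H : Subgroup G} (hH : IsCoatom H) {A : Type v} [Group A] [IsSimpleGroup A]
    (hA : ∃ a b : A, a * b ≠ b * a) (hF : Nonempty (↥(generalizedFittingSubgroup ↥H) ≃* A)) :
    ∃ φ : A →* G, MaxSimp H φ := by
  obtain ⟨e⟩ := hF
  have hN : (generalizedFittingSubgroup ↥H).Normal := Lib.GenFitting.genFitting_normal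
  set N : Subgroup ↥H := generalizedFittingSubgroup ↥H with hNdef
  have hC : centralizer (N : Set ↥H) ≤ N := Lib.GenFitting.centralizer_genFitting_le
  have hZ : Subgroup.center A = ⊥ := simple_noncomm hA
  -- `C_H(N) = 1`
  have hC1 : ∀ h : ↥H, (∀ a ∈ N, h * a = a * h) → h = 1 := by
    intro h hh
    have h1 : h ∈ N := hC (mem_centralizer_iff.2 fun a ha => (hh a ha).symm)
    have h2 : e ⟨h, h1⟩ ∈ Subgroup.center A := by
      rw [mem_center_iff]
      intro g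
      have h3 := hh _ (e.symm g).2
      have h4 : (⟨h, h1⟩ : ↥N) * e.symm g = e.symm g * ⟨h, h1⟩ := Subtype.ext h3
      have h5 := congrArg e h4
      rw [map_mul, map_mul, e.apply_symm_apply] at h5
      exact h5.symm
    rw [hZ, mem_bot, e.map_eq_one_iff] at h2
    exact congrArg Subtype.val h2
  -- the homomorphism to the automorphism group
  let ψ : ↥H →* MulAut A := (MulAut.congr e).toMonoidHom.comp (MulAut.conjNormal (H := N))
  have hψ : ∀ (h : ↥H) (x : A), ((e.symm (ψ h x) : ↥N) : ↥H) = h * (e.symm x : ↥N) * h⁻¹ := by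
    intro h x
    show ((e.symm (e (MulAut.conjNormal h (e.symm x))) : ↥N) : ↥H) = _
    rw [e.symm_apply_apply, MulAut.conjNormal_apply]
  have hψinj : Function.Injective ψ := by
    rw [injective_iff_map_eq_one]
    intro h hh
    refine hC1 h fun a ha => ?_
    have h1 := hψ h (e ⟨a, ha⟩)
    rw [hh, MulAut.one_apply, e.symm_apply_apply] at h1
    have h2 : a = h * a * h⁻¹ := h1
    exact (eq_mul_inv_iff_mul_eq.1 h2).symm
  have hψA : ∀ x : A, ψ ((e.symm x : ↥N) : ↥H) = MulAut.conj x := by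
    intro x
    apply MulEquiv.ext
    intro y
    apply e.symm.injective
    apply Subtype.ext
    rw [hψ, MulAut.conj_apply, map_mul, map_mul, map_inv]
    rfl
  let φ : A →* G := H.subtype.comp (N.subtype.comp e.symm.toMonoidHom)
  have hφ : ∀ x, φ x = (((e.symm x : ↥N) : ↥H) : G) := fun x => rfl
  have hr : ∀ h : ↥H, (h : G) ∈ φ.range ↔ h ∈ N := by
    intro h
    constructor
    · rintro ⟨x, hx⟩
      rw [hφ] at hx
      have : ((e.symm x : ↥N) : ↥H) = h := Subtype.ext hx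
      rw [← this]
      exact (e.symm x).2
    · intro hh
      exact ⟨e ⟨h, hh⟩, by rw [hφ, e.symm_apply_apply]⟩
  have hle : φ.range ≤ H := by
    rintro _ ⟨x, rfl⟩
    exact ((e.symm x : ↥N) : ↥H).2
  have hinj : Function.Injective φ := by
    intro x y hxy
    exact e.symm.injective (Subtype.ext (Subtype.ext hxy))
  have hnorm : ∀ h ∈ H, ∀ a ∈ φ.range, h * a * h⁻¹ ∈ φ.range := by
    intro h hh a ha
    have h1 := hN.conj_mem ⟨a, hle ha⟩ ((hr ⟨a, hle ha⟩).1 ha) ⟨h, hh⟩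
    exact (hr _).2 h1
  have hmin : ∀ B : Subgroup G, B ≤ H → (∀ h ∈ H, ∀ b ∈ B, h * b * h⁻¹ ∈ B) → B ≠ ⊥ → φ.range ≤ B := by
    intro B hB hBn hB1
    have hBN : (B.subgroupOf H).Normal := ⟨fun b hb h => hBn h h.2 b hb⟩
    set C : Subgroup A := (B.subgroupOf H).comap (N.subtype.comp e.symm.toMonoidHom) with hCdef
    have hCN : C.Normal := hBN.comap _
    rcases hCN.eq_bot_or_eq_top with h | h
    · exfalso
      apply hB1
      rw [eq_bot_iff]
      intro b hb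
      have h1 := hC1 ⟨b, hB hb⟩ fun a ha => by
        set b' : ↥H := ⟨b, hB hb⟩ with hb'
        have hbB : b' ∈ B.subgroupOf H := hb
        have h2 : b' * a * b'⁻¹ * a⁻¹ ∈ N := N.mul_mem (hN.conj_mem a ha b') (N.inv_mem ha)
        have h3 : b' * a * b'⁻¹ * a⁻¹ ∈ B.subgroupOf H := by
          have := (B.subgroupOf H).mul_mem hbB (hBN.conj_mem _ ((B.subgroupOf H).inv_mem hbB) a)
          rwa [show b' * (a * b'⁻¹ * a⁻¹) = b' * a * b'⁻¹ * a⁻¹ by group] at this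
        have h4 : e ⟨_, h2⟩ ∈ C := by
          rw [hCdef, mem_comap]
          show ((e.symm (e ⟨_, h2⟩) : ↥N) : ↥H) ∈ B.subgroupOf H
          rw [e.symm_apply_apply]
          exact h3
        rw [h, mem_bot, e.map_eq_one_iff] at h4
        have h5 : b' * a * b'⁻¹ * a⁻¹ = 1 := congrArg Subtype.val h4
        rw [mul_inv_eq_one, mul_inv_eq_iff_eq_mul] at h5
        exact h5
      rw [mem_bot]
      exact congrArg Subtype.val h1
    · rintro _ ⟨x, rfl⟩
      have h1 : x ∈ C := h ▸ mem_top x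
      exact h1
  refine ⟨φ, hH, hinj, hle, hnorm, hmin, fun z hz => cent_of_max hH hinj hA hle hnorm hmin hz, ψ, hψinj, ?_, ?_⟩
  · intro h a
    rw [hφ, hψ, Subgroup.coe_mul, Subgroup.coe_mul, Subgroup.coe_inv, hφ]
  · intro a ha
    rw [← hψA]
    congr 1

theorem MaxSimp.card_le {H : Subgroup G} {A : Type v} [Group A] [Finite A] {φ : A →* G} (h : MaxSimp H φ) :
    Nat.card ↥H ≤ Nat.card (MulAut A) := by
  obtain ⟨ι, hι, -⟩ := h.act
  have : Finite (MulAut A) := Finite.of_injective (fun σ => (σ : A → A)) DFunLike.coe_injective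
  exact Nat.card_le_card_of_injective ι hι

end Cfsg.Agent.R2.H9.E6
end

-- part: R2/SL2/Bridge
section
prune_inst 0x11300500742200000000050002000020640001900020000020000440010903008940010002001000000e22000800000002100000400000000a000000000400000008100010002000200000000080000000000000000000000000000000010004000000000
set_option linter.all false
open scoped Cfsg.Agent.FastGrp

-- part: R2/SL2/Dig
section
/-!
# Characters of the modules `V_b` in terms of the digits of `b` (R2/SL2, helper17)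

`Bp p b` : the exponents `m ≤ b` with `p ∤ C(b, m)`; `ch p b x = ∑_{m ∈ Bp p b} x ^ (2 m - b)` for a unit `x` of a
commutative ring; `chd d x = ∑_{j ≤ d} x ^ (2 j - d)`.

* `ch_eq` : `ch p b x = chd (b % p) x * ch p (b / p) (x ^ p)` (Lucas);
* `card_Bp` : `|Bp p b| = ∏ (b_i + 1)`;
* `ch_four` : `x² = -1`, `p` odd: `ch p b x = ∏ t2 b_i`;
* `ch_three` : `x² + x + 1 = 0`, `p ≠ 3`: `ch p b x = ∏ t3 b_i`.
-/

set_option autoImplicit false

namespace Cfsg.Agent.R2.SL2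

open Finset

/-- the exponents `m ≤ b` with `p ∤ C(b, m)` -/
def Bp (p b : ℕ) : Finset ℕ := (range (b + 1)).filter fun m => ¬ p ∣ b.choose m

theorem mem_Bp {p b m : ℕ} : m ∈ Bp p b ↔ m ≤ b ∧ ¬ p ∣ b.choose m := by
  unfold Bp
  rw [mem_filter, mem_range, Nat.lt_succ_iff]

variable {R : Type*} [CommRing R]

/-- the character of the module of dimension `d + 1` -/
def chd (d : ℕ) (x : Rˣ) : R := ∑ j ∈ range (d + 1), ((x ^ (2 * (j : ℤ) - d) : Rˣ) : R)

/-- the character of `V_b` -/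
def ch (p b : ℕ) (x : Rˣ) : R := ∑ m ∈ Bp p b, ((x ^ (2 * (m : ℤ) - b) : Rˣ) : R)

section

variable {p : ℕ} [hp : Fact p.Prime]

theorem not_dvd_choose {n m : ℕ} (hn : n < p) (hm : m ≤ n) : ¬ p ∣ n.choose m := by
  intro h
  have h1 : n.choose m * m.factorial * (n - m).factorial = n.factorial := Nat.choose_mul_factorial_mul_factorial hm
  have h2 : p ∣ n.factorial := h1 ▸ (h.mul_right _).mul_right _
  exact absurd ((Nat.Prime.dvd_factorial hp.out).1 h2) (not_le.2 hn)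

/-- Lucas -/
theorem dvd_choose_iff (b m : ℕ) :
    ¬ p ∣ b.choose m ↔ m % p ≤ b % p ∧ ¬ p ∣ (b / p).choose (m / p) := by
  have h := Choose.choose_modEq_choose_mod_mul_choose_div_nat (n := b) (k := m) (p := p)
  rw [h.dvd_iff (dvd_refl p), hp.out.dvd_mul, not_or]
  have hb : b % p < p := Nat.mod_lt _ hp.out.pos
  constructor
  · rintro ⟨h1, h2⟩
    refine ⟨?_, h2⟩
    by_contra hlt
    rw [Nat.choose_eq_zero_of_lt (not_le.1 hlt)] at h1
    exact h1 (dvd_zero p)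
  · rintro ⟨h1, h2⟩
    exact ⟨not_dvd_choose hb h1, h2⟩

theorem mem_Bp_iff (b m : ℕ) : m ∈ Bp p b ↔ m % p ≤ b % p ∧ m / p ∈ Bp p (b / p) := by
  rw [mem_Bp, mem_Bp, dvd_choose_iff]
  constructor
  · rintro ⟨h1, h2, h3⟩
    exact ⟨h2, Nat.div_le_div_right h1, h3⟩
  · rintro ⟨h1, h2, h3⟩
    refine ⟨?_, h1, h3⟩
    rw [← Nat.div_add_mod b p, ← Nat.div_add_mod m p]
    exact Nat.add_le_add (Nat.mul_le_mul_left _ h2) h1

theorem sum_Bp {M : Type*} [AddCommMonoid M] (b : ℕ) (f : ℕ → M) :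
    ∑ m ∈ Bp p b, f m = ∑ m' ∈ Bp p (b / p), ∑ j ∈ range (b % p + 1), f (p * m' + j) := by
  have hpos := hp.out.pos
  have hb : b % p < p := Nat.mod_lt _ hpos
  rw [← Finset.sum_product' (f := fun m' j => f (p * m' + j))]
  refine Finset.sum_nbij' (fun m => (m / p, m % p)) (fun z => p * z.1 + z.2) ?_ ?_ ?_ ?_ ?_
  · intro m hm
    rw [mem_Bp_iff] at hm
    exact mem_product.2 ⟨hm.2, mem_range.2 (Nat.lt_succ_iff.2 hm.1)⟩
  · rintro ⟨m', j⟩ hz
    rw [mem_product] at hz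
    have hj : j < b % p + 1 := mem_range.1 hz.2
    have hj' : j < p := by omega
    show p * m' + j ∈ Bp p b
    rw [mem_Bp_iff, Nat.mul_add_mod, Nat.mod_eq_of_lt hj', Nat.mul_add_div hpos, Nat.div_eq_of_lt hj', add_zero]
    exact ⟨Nat.lt_succ_iff.1 hj, hz.1⟩
  · intro m _
    exact Nat.div_add_mod m p
  · rintro ⟨m', j⟩ hz
    rw [mem_product] at hz
    have hj : j < b % p + 1 := mem_range.1 hz.2
    have hj' : j < p := by omega
    show ((p * m' + j) / p, (p * m' + j) % p) = (m', j)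
    rw [Nat.mul_add_mod, Nat.mod_eq_of_lt hj', Nat.mul_add_div hpos, Nat.div_eq_of_lt hj', add_zero]
  · intro m _
    rw [Nat.div_add_mod]

/-- **the recursion** -/
theorem ch_eq (b : ℕ) (x : Rˣ) : ch p b x = chd (b % p) x * ch p (b / p) (x ^ p) := by
  unfold ch chd
  rw [sum_Bp, Finset.sum_mul_sum, Finset.sum_comm]
  refine Finset.sum_congr rfl fun j _ => Finset.sum_congr rfl fun m' _ => ?_
  rw [← Units.val_mul]
  congr 1
  rw [← zpow_natCast, ← zpow_mul, ← zpow_add]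
  congr 1
  have h : (b : ℤ) = p * (b / p : ℕ) + (b % p : ℕ) := by
    exact_mod_cast (Nat.div_add_mod b p).symm
  rw [h]
  push_cast
  ring

theorem Bp_zero : Bp p 0 = {0} := by
  ext m
  rw [mem_Bp, mem_singleton]
  constructor
  · rintro ⟨h, -⟩
    omega
  · rintro rfl
    exact ⟨le_rfl, by rw [Nat.choose_self]; exact hp.out.one_lt.not_ge ∘ Nat.le_of_dvd one_pos⟩

theorem ch_zero (x : Rˣ) : ch p 0 x = 1 := by
  unfold ch
  rw [Bp_zero, Finset.sum_singleton]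
  simp

end

/-- the nonzero digits -/
def typ (p b : ℕ) : Multiset ℕ := (((Nat.digits p b).filter (fun d => d ≠ 0) : List ℕ) : Multiset ℕ)

/-- `∏ f (b_i)` over the nonzero digits -/
def pr {M : Type*} [CommMonoid M] (f : ℕ → M) (s : Multiset ℕ) : M := (s.map f).prod

theorem typ_zero (p : ℕ) : typ p 0 = 0 := by
  unfold typ
  rw [Nat.digits_zero]
  rfl

theorem pr_zero {M : Type*} [CommMonoid M] (f : ℕ → M) : pr f 0 = 1 := by
  unfold pr
  rw [Multiset.map_zero, Multiset.prod_zero]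

theorem typ_step {p : ℕ} (hp : 1 < p) {b : ℕ} (hb : b ≠ 0) :
    typ p b = (if b % p = 0 then 0 else {b % p}) + typ p (b / p) := by
  unfold typ
  rw [Nat.digits_def' hp (Nat.pos_of_ne_zero hb), List.filter_cons]
  split_ifs with h1 h2 h2
  · simp only [decide_eq_true_eq] at h1
    exact absurd h2 h1
  · rw [← Multiset.cons_coe]
    rfl
  · rw [zero_add]
  · simp only [decide_eq_true_eq, not_not] at h1
    exact absurd h1 h2

theorem pr_step {M : Type*} [CommMonoid M] {f : ℕ → M} (hf : f 0 = 1) {p : ℕ} (hp : 1 < p) {b : ℕ} (hb : b ≠ 0) :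
    pr f (typ p b) = f (b % p) * pr f (typ p (b / p)) := by
  rw [typ_step hp hb]
  unfold pr
  rw [Multiset.map_add, Multiset.prod_add]
  split_ifs with h
  · rw [h, hf, Multiset.map_zero, Multiset.prod_zero]
  · rw [Multiset.map_singleton, Multiset.prod_singleton]

theorem mem_typ {p : ℕ} (hp : 1 < p) {b d : ℕ} (h : d ∈ typ p b) : 1 ≤ d ∧ d < p := by
  unfold typ at h
  rw [Multiset.mem_coe, List.mem_filter] at h
  refine ⟨Nat.one_le_iff_ne_zero.2 (by simpa using h.2), Nat.digits_lt_base hp h.1⟩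

section

variable {p : ℕ} [hp : Fact p.Prime]

/-- induction on the digits -/
theorem rec_digits {P : ℕ → Prop} (h0 : P 0) (hs : ∀ b, b ≠ 0 → P (b / p) → P b) (b : ℕ) : P b := by
  induction b using Nat.strong_induction_on with
  | _ b ih =>
    by_cases hb : b = 0
    · rw [hb]; exact h0
    · exact hs b hb (ih _ (Nat.div_lt_self (Nat.pos_of_ne_zero hb) hp.out.one_lt))

/-- **the dimension** -/
theorem card_Bp (b : ℕ) : (Bp p b).card = pr (fun d => d + 1) (typ p b) := by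
  refine rec_digits (p := p) (P := fun b => (Bp p b).card = pr (fun d => d + 1) (typ p b)) ?_ ?_ b
  · show (Bp p 0).card = _
    rw [Bp_zero, typ_zero, pr_zero, card_singleton]
  · intro b hb ih
    show (Bp p b).card = _
    rw [pr_step (f := fun d => d + 1) rfl hp.out.one_lt hb, ← ih, card_eq_sum_ones, sum_Bp]
    simp only [sum_const, card_range, smul_eq_mul, mul_one]
    ring

/-- the trace of an element of order 4 -/
def t2 (d : ℕ) : ℤ := if d % 4 = 0 then 1 else if d % 4 = 2 then -1 else 0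

/-- the trace of an element of order 3 -/
def t3 (d : ℕ) : ℤ := if d % 3 = 0 then 1 else if d % 3 = 1 then -1 else 0

theorem chd_eq (d : ℕ) (x : Rˣ) : chd d x = ((x ^ (-(d : ℤ)) : Rˣ) : R) * ∑ j ∈ range (d + 1), ((x : R) ^ 2) ^ j := by
  unfold chd
  rw [Finset.mul_sum]
  refine Finset.sum_congr rfl fun j _ => ?_
  have h : ((x : R) ^ 2) ^ j = ((x ^ (2 * (j : ℤ)) : Rˣ) : R) := by
    rw [← pow_mul, ← Units.val_pow_eq_pow_val, ← zpow_natCast]
    push_cast
    rfl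
  rw [h, ← Units.val_mul, ← zpow_add]
  congr 2
  ring

theorem sum_neg_one (d : ℕ) : ∑ j ∈ range (d + 1), (-1 : R) ^ j = if d % 2 = 0 then 1 else 0 := by
  induction d with
  | zero => simp only [_root_.zero_add, _root_.Finset.range_one, _root_.Finset.sum_singleton, _root_.pow_zero, _root_.Nat.zero_mod, ↓ _root_.reduceIte]
  | succ d ih =>
    rw [Finset.sum_range_succ, ih]
    rcases Nat.even_or_odd d with h | h
    · rw [if_pos (Nat.even_iff.1 h), if_neg (by rw [Nat.even_iff] at h; omega), (h.add_one).neg_one_pow]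
      ring
    · rw [if_neg (by rw [Nat.odd_iff] at h; omega), if_pos (by rw [Nat.odd_iff] at h; omega), (h.add_one).neg_one_pow]
      ring

theorem chd_four (d : ℕ) {x : Rˣ} (hx : (x : R) ^ 2 = -1) : chd d x = (t2 d : R) := by
  rw [chd_eq, hx, sum_neg_one]
  have hx4 : x ^ 4 = 1 := by
    apply Units.ext
    rw [Units.val_pow_eq_pow_val, show 4 = 2 * 2 from rfl, pow_mul, hx]
    simp only [_root_.even_two, _root_.Even.neg_pow, _root_.one_pow, _root_.Units.val_one]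
  have hx2 : x ^ 2 = -1 := Units.ext (by rw [Units.val_pow_eq_pow_val, hx]; simp)
  unfold t2
  split_ifs with h1 h2 h3 h3 h4
  · obtain ⟨k, hk⟩ : ∃ k, d = 4 * k := ⟨d / 4, by omega⟩
    rw [hk, zpow_neg, zpow_natCast, pow_mul, hx4, one_pow, inv_one]
    simp
  · obtain ⟨k, hk⟩ : ∃ k, d = 4 * k + 2 := ⟨d / 4, by omega⟩
    rw [hk, zpow_neg, zpow_natCast, pow_add, pow_mul, hx4, one_pow, one_mul, hx2]
    simp
  · omega
  · omega
  · omega
  · simp

theorem chd_three (d : ℕ) {x : Rˣ} (hx : (x : R) ^ 2 + x + 1 = 0) : chd d x = (t3 d : R) := by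
  have hx3 : (x : R) ^ 3 = 1 := by linear_combination ((x : R) - 1) * hx
  have hx3' : x ^ 3 = 1 := Units.ext (by rw [Units.val_pow_eq_pow_val, hx3]; rfl)
  have hinv : ((x⁻¹ : Rˣ) : R) = (x : R) ^ 2 := by
    have : x⁻¹ = x ^ 2 := by
      rw [inv_eq_iff_mul_eq_one, ← pow_succ']
      exact hx3'
    rw [this, Units.val_pow_eq_pow_val]
  have hs : ∀ d : ℕ, ∑ j ∈ range (d + 1), ((x : R) ^ 2) ^ j = if d % 3 = 0 then 1 else if d % 3 = 1 then -(x : R) else 0 := by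
    intro d
    induction d with
    | zero => simp
    | succ d ih =>
      rw [Finset.sum_range_succ, ih, ← pow_mul]
      have h3 : ∀ k r : ℕ, (x : R) ^ (3 * k + r) = (x : R) ^ r := by
        intro k r
        rw [pow_add, pow_mul, hx3, one_pow, one_mul]
      obtain ⟨k, hk⟩ : ∃ k, d = 3 * k + d % 3 := ⟨d / 3, by omega⟩
      have hlt : d % 3 < 3 := Nat.mod_lt _ (by norm_num)
      generalize hr : d % 3 = r at hk hlt
      interval_cases r
      · rw [if_pos rfl, if_neg (by omega), if_pos (by omega), hk,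
          show 2 * (3 * k + 0 + 1) = 3 * (2 * k) + 2 by ring, h3]
        linear_combination hx
      · rw [if_neg (by norm_num), if_pos rfl, if_neg (by omega), if_neg (by omega), hk,
          show 2 * (3 * k + 1 + 1) = 3 * (2 * k + 1) + 1 by ring, h3]
        ring
      · rw [if_neg (by norm_num), if_neg (by norm_num), if_pos (by omega), hk,
          show 2 * (3 * k + 2 + 1) = 3 * (2 * k + 2) + 0 by ring, h3]
        ring
  rw [chd_eq, hs]
  unfold t3
  have hz : ∀ k r : ℕ, ((x ^ (-((3 * k + r : ℕ) : ℤ)) : Rˣ) : R) = ((x : R) ^ 2) ^ r := by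
    intro k r
    rw [zpow_neg, zpow_natCast, pow_add, pow_mul, hx3', one_pow, one_mul, ← inv_pow, Units.val_pow_eq_pow_val, hinv]
  obtain ⟨k, hk⟩ : ∃ k, d = 3 * k + d % 3 := ⟨d / 3, by omega⟩
  have hlt : d % 3 < 3 := Nat.mod_lt _ (by norm_num)
  generalize hr : d % 3 = r at hk hlt
  interval_cases r
  · rw [hk, hz]
    simp
  · rw [if_neg (by norm_num), if_pos rfl, if_neg (by norm_num), if_pos rfl, hk, hz]
    push_cast
    linear_combination (-1 : R) * hx3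
  · simp

theorem ch_four (hp2 : p ≠ 2) (b : ℕ) : ∀ {x : Rˣ}, (x : R) ^ 2 = -1 → ch p b x = ((pr t2 (typ p b) : ℤ) : R) := by
  refine rec_digits (p := p) (P := fun b => ∀ {x : Rˣ}, (x : R) ^ 2 = -1 → ch p b x = ((pr t2 (typ p b) : ℤ) : R))
    ?_ ?_ b
  · intro x _
    rw [ch_zero, typ_zero, pr_zero]
    simp
  · intro b hb ih x hx
    have hodd : Odd p := (hp.out.eq_two_or_odd').resolve_left hp2
    rw [ch_eq, pr_step (f := t2) rfl hp.out.one_lt hb, chd_four _ hx, ih (x := x ^ p) (by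
      rw [Units.val_pow_eq_pow_val, ← pow_mul, mul_comm, pow_mul, hx, hodd.neg_one_pow])]
    push_cast
    rfl

theorem ch_three (hp3 : p ≠ 3) (b : ℕ) : ∀ {x : Rˣ}, (x : R) ^ 2 + x + 1 = 0 → ch p b x = ((pr t3 (typ p b) : ℤ) : R) := by
  refine rec_digits (p := p) (P := fun b => ∀ {x : Rˣ}, (x : R) ^ 2 + x + 1 = 0 → ch p b x = ((pr t3 (typ p b) : ℤ) : R))
    ?_ ?_ b
  · intro x _
    rw [ch_zero, typ_zero, pr_zero]
    simp
  · intro b hb ih x hx
    have hx3 : (x : R) ^ 3 = 1 := by linear_combination ((x : R) - 1) * hx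
    rw [ch_eq, pr_step (f := t3) rfl hp.out.one_lt hb, chd_three _ hx, ih (x := x ^ p) (by
      rw [Units.val_pow_eq_pow_val]
      have hm : p % 3 ≠ 0 := fun h => hp3 ((Nat.prime_dvd_prime_iff_eq Nat.prime_three hp.out).1
        (Nat.dvd_of_mod_eq_zero h)).symm
      have hpow : ∀ k r : ℕ, (x : R) ^ (3 * k + r) = (x : R) ^ r := by
        intro k r
        rw [pow_add, pow_mul, hx3, one_pow, one_mul]
      rw [← Nat.div_add_mod p 3, hpow]
      have hlt : p % 3 < 3 := Nat.mod_lt _ (by norm_num)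
      generalize p % 3 = r at hm hlt
      interval_cases r
      · exact absurd rfl hm
      · rw [pow_one]; exact hx
      · linear_combination hx + (x : R) * hx3)]
    push_cast
    rfl

end

end Cfsg.Agent.R2.SL2
end

-- part: R2/SL2/Enum
section
/-!
# Verified enumeration of composition patterns (R2/SL2, helper17)

* `gen M n m D` : the weakly increasing lists of digits in `[m, M]` with `∏ (d + 1) ≤ D`, of length `≤ n`;
* `pats ok n L D t` : the multisets of types (elements of the list `L` of triples `(name, dim, value)`) of total dimension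
  `D` and with `ok (t + total value)`;
* `exists_pats` : the completeness.
-/

set_option autoImplicit false

namespace Cfsg.Agent.R2.SL2

/-- the weakly increasing lists of digits in `[m, M]` with `∏ (d + 1) ≤ D` and of length at most `n` -/
def gen (M : ℕ) : ℕ → ℕ → ℕ → List (List ℕ)
  | 0, _, _ => [[]]
  | n + 1, m, D => [] :: (List.range' m (M + 1 - m)).flatMap fun d =>
      if d + 1 ≤ D then (gen M n d (D / (d + 1))).map (fun l => d :: l) else []

theorem mem_gen {M : ℕ} : ∀ (n m D : ℕ) (l : List ℕ), l.Pairwise (fun a b => a ≤ b) → (∀ d ∈ l, m ≤ d ∧ d ≤ M) →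
    (l.map (fun d => d + 1)).prod ≤ D → l.length ≤ n → l ∈ gen M n m D := by
  intro n
  induction n with
  | zero =>
    intro m D l _ _ _ hl
    rw [List.length_eq_zero_iff.1 (Nat.le_zero.1 hl)]
    exact List.mem_singleton.2 rfl
  | succ n ih =>
    intro m D l hs hm hD hl
    cases l with
    | nil => exact List.mem_cons_self
    | cons d t =>
      refine List.mem_cons_of_mem _ (List.mem_flatMap.2 ⟨d, ?_, ?_⟩)
      · have := hm d List.mem_cons_self
        rw [List.mem_range'_1]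
        omega
      · rw [List.map_cons, List.prod_cons] at hD
        have hpos : 0 < (t.map (fun d => d + 1)).prod :=
          List.prod_pos fun a ha => by
            obtain ⟨b, _, rfl⟩ := List.mem_map.1 ha
            exact Nat.succ_pos b
        have h1 : d + 1 ≤ D := le_trans (Nat.le_mul_of_pos_right _ hpos) hD
        rw [if_pos h1]
        refine List.mem_map.2 ⟨t, ?_, rfl⟩
        refine ih d _ t hs.of_cons ?_ ?_ (Nat.le_of_succ_le_succ hl)
        · intro e he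
          exact ⟨List.rel_of_pairwise_cons hs he, (hm e (List.mem_cons_of_mem _ he)).2⟩
        · rw [Nat.le_div_iff_mul_le (Nat.succ_pos d), mul_comm]
          exact hD

/-- the multisets of types of total dimension `D` with admissible total value -/
def pats {T A : Type*} [Add A] (ok : A → Bool) : ℕ → List (T × ℕ × A) → ℕ → A → List (List T)
  | 0, _, _, _ => []
  | n + 1, L, D, t =>
    if D = 0 then (if ok t then [[]] else [])
    else match L with
      | [] => []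
      | x :: L' => (if x.2.1 ≤ D then (pats ok n (x :: L') (D - x.2.1) (t + x.2.2)).map (fun l => x.1 :: l) else []) ++
          pats ok n L' D t

theorem mem_pats {T A : Type*} [AddCommMonoid A] (ok : A → Bool) :
    ∀ (n : ℕ) (L : List (T × ℕ × A)) (D : ℕ) (t : A) (M : Multiset (T × ℕ × A)), (∀ x ∈ M, x ∈ L) →
      (∀ x ∈ M, 1 ≤ x.2.1) → (M.map fun x => x.2.1).sum = D → ok (t + (M.map fun x => x.2.2).sum) = true →
      L.length + D < n → ∃ w ∈ pats ok n L D t, (w : Multiset T) = M.map fun x => x.1 := by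
  intro n
  induction n with
  | zero => intro L D t M _ _ _ _ h; exact absurd h (Nat.not_lt_zero _)
  | succ n ih =>
    intro L D t M hL h1 hD hok hn
    unfold pats
    split_ifs with h0 hk
    · refine ⟨[], List.mem_singleton.2 rfl, ?_⟩
      have hM : M = 0 := by
        by_contra hne
        obtain ⟨x, hx⟩ := Multiset.exists_mem_of_ne_zero hne
        have h2 : x.2.1 ≤ (M.map fun x => x.2.1).sum := Multiset.le_sum_of_mem (Multiset.mem_map_of_mem (fun x : T × ℕ × A => x.2.1) hx)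
        have := h1 x hx
        omega
      rw [hM]
      rfl
    · exfalso
      have hM : M = 0 := by
        by_contra hne
        obtain ⟨x, hx⟩ := Multiset.exists_mem_of_ne_zero hne
        have h2 : x.2.1 ≤ (M.map fun x => x.2.1).sum := Multiset.le_sum_of_mem (Multiset.mem_map_of_mem (fun x : T × ℕ × A => x.2.1) hx)
        have := h1 x hx
        omega
      rw [hM, Multiset.map_zero, Multiset.sum_zero, add_zero] at hok
      exact hk hok
    · cases L with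
      | nil =>
        exfalso
        have hM : M = 0 := Multiset.eq_zero_of_forall_notMem fun x hx => by simpa using hL x hx
        rw [hM] at hD
        exact h0 (by rw [← hD]; rfl)
      | cons x L' =>
        by_cases hx : x ∈ M
        · obtain ⟨M', hM'⟩ := Multiset.exists_cons_of_mem hx
          rw [hM', Multiset.map_cons, Multiset.sum_cons] at hD
          rw [hM', Multiset.map_cons, Multiset.sum_cons, ← add_assoc] at hok
          have hx1 := h1 x hx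
          have hle : x.2.1 ≤ D := by omega
          have hD' : (M'.map fun x => x.2.1).sum = D - x.2.1 := by omega
          obtain ⟨w, hw, hwM⟩ := ih (x :: L') (D - x.2.1) (t + x.2.2) M'
            (fun y hy => hL y (hM' ▸ Multiset.mem_cons_of_mem hy)) (fun y hy => h1 y (hM' ▸ Multiset.mem_cons_of_mem hy))
            hD' hok (by omega)
          refine ⟨x.1 :: w, ?_, ?_⟩
          · apply List.mem_append_left
            rw [if_pos hle]
            exact List.mem_map.2 ⟨w, hw, rfl⟩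
          · rw [hM', Multiset.map_cons, ← hwM, Multiset.cons_coe]
        · obtain ⟨w, hw, hwM⟩ := ih L' D t M (fun y hy => by
            rcases List.mem_cons.1 (hL y hy) with h | h
            · exact absurd (h ▸ hy) hx
            · exact h) h1 hD hok (by
              rw [List.length_cons] at hn
              omega)
          exact ⟨w, List.mem_append_right _ hw, hwM⟩

/-- product of `f` over a list -/
def prl {M : Type*} [Mul M] [One M] (f : ℕ → M) : List ℕ → M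
  | [] => 1
  | d :: l => f d * prl f l

theorem prl_eq {M : Type*} [CommMonoid M] (f : ℕ → M) (l : List ℕ) : prl f l = pr f (l : Multiset ℕ) := by
  unfold pr
  rw [Multiset.map_coe, Multiset.prod_coe]
  induction l with
  | nil => rfl
  | cons d l ih => rw [List.map_cons, List.prod_cons, ← ih]; rfl

/-- the sorted list of the nonzero digits -/
def tyl (p b : ℕ) : List ℕ := (typ p b).sort (fun a b => a ≤ b)

theorem coe_tyl (p b : ℕ) : ((tyl p b : List ℕ) : Multiset ℕ) = typ p b := Multiset.sort_eq _ _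

/-- the table of the types -/
def tys {A : Type*} (val : List ℕ → A) (par : List ℕ → Bool) (M n D : ℕ) : List (List ℕ × ℕ × A) :=
  ((gen M n 1 D).filter par).map fun l => (l, prl (fun d => d + 1) l, val l)

theorem prl_le_of_mem {p : ℕ} [hp : Fact p.Prime] {s : Multiset ℕ} {b : ℕ} (hb : b ∈ s) :
    pr (fun d => d + 1) (typ p b) ≤ (s.map fun b => (Bp p b).card).sum := by
  rw [← card_Bp]
  exact Multiset.le_sum_of_mem (Multiset.mem_map_of_mem (fun b => (Bp p b).card) hb)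

/-- **completeness of the enumeration** -/
theorem exists_pats {p : ℕ} [hp : Fact p.Prime] {A : Type*} [AddCommMonoid A] (val : List ℕ → A) (par : List ℕ → Bool)
    (ok : A → Bool) {M n D : ℕ} (s : Multiset ℕ) (hpar : ∀ b ∈ s, par (tyl p b) = true)
    (hM : p ≤ M + 1 ∨ D ≤ M + 1) (hn : D < 2 ^ (n + 1)) (hD : (s.map fun b => (Bp p b).card).sum = D)
    (hok : ok (s.map fun b => val (tyl p b)).sum = true) {N : ℕ} (hN : (tys val par M n D).length + D < N) :
    ∃ w ∈ pats ok N (tys val par M n D) D 0, (w : Multiset (List ℕ)) = s.map (tyl p) := by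
  have hmem : ∀ b ∈ s, tyl p b ∈ gen M n 1 D := by
    intro b hb
    have hle : prl (fun d => d + 1) (tyl p b) ≤ D := by
      rw [prl_eq, coe_tyl, ← hD]
      exact prl_le_of_mem hb
    have hprod : ((tyl p b).map (fun d => d + 1)).prod ≤ D := by
      rw [prl_eq] at hle
      unfold pr at hle
      rwa [Multiset.map_coe, Multiset.prod_coe] at hle
    have hdig : ∀ d ∈ tyl p b, 1 ≤ d ∧ d < p := fun d hd => by
      have : d ∈ typ p b := by rw [← coe_tyl]; exact hd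
      exact mem_typ hp.out.one_lt this
    refine mem_gen n 1 D (tyl p b) (Multiset.pairwise_sort _ _) ?_ hprod ?_
    · intro d hd
      refine ⟨(hdig d hd).1, ?_⟩
      rcases hM with h | h
      · have := (hdig d hd).2
        omega
      · have h1 : d + 1 ∣ ((tyl p b).map (fun d => d + 1)).prod :=
          List.dvd_prod (List.mem_map.2 ⟨d, hd, rfl⟩)
        have hpos : 0 < ((tyl p b).map (fun d => d + 1)).prod :=
          List.prod_pos fun a ha => by
            obtain ⟨b, _, rfl⟩ := List.mem_map.1 ha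
            exact Nat.succ_pos b
        have := Nat.le_of_dvd hpos h1
        omega
    · have h2 : ∀ l : List ℕ, (∀ d ∈ l, 1 ≤ d) → 2 ^ l.length ≤ (l.map (fun d => d + 1)).prod := by
        intro l
        induction l with
        | nil => intro _; exact le_rfl
        | cons d l ih =>
          intro h
          rw [List.length_cons, List.map_cons, List.prod_cons, pow_succ, mul_comm]
          exact Nat.mul_le_mul (Nat.succ_le_succ (h d List.mem_cons_self))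
            (ih fun e he => h e (List.mem_cons_of_mem _ he))
      have h3 := h2 _ fun d hd => (hdig d hd).1
      have h4 : 2 ^ (tyl p b).length < 2 ^ (n + 1) := lt_of_le_of_lt (h3.trans hprod) hn
      exact Nat.lt_succ_iff.1 ((Nat.pow_lt_pow_iff_right (by norm_num)).1 h4)
  have hmem' : ∀ b ∈ s, (tyl p b, prl (fun d => d + 1) (tyl p b), val (tyl p b)) ∈ tys val par M n D := by
    intro b hb
    exact List.mem_map.2 ⟨tyl p b, List.mem_filter.2 ⟨hmem b hb, hpar b hb⟩, rfl⟩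
  obtain ⟨w, hw, hwM⟩ := mem_pats ok N (tys val par M n D) D 0
    (s.map fun b => (tyl p b, prl (fun d => d + 1) (tyl p b), val (tyl p b)))
    (by
      intro x hx
      obtain ⟨b, hb, rfl⟩ := Multiset.mem_map.1 hx
      exact hmem' b hb)
    (by
      intro x hx
      obtain ⟨b, hb, rfl⟩ := Multiset.mem_map.1 hx
      show 1 ≤ prl (fun d => d + 1) (tyl p b)
      rw [prl_eq]
      unfold pr
      rw [Multiset.map_coe, Multiset.prod_coe]
      exact List.prod_pos fun a ha => by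
        obtain ⟨b, _, rfl⟩ := List.mem_map.1 ha
        exact Nat.succ_pos b)
    (by
      rw [Multiset.map_map, ← hD]
      refine congrArg Multiset.sum (Multiset.map_congr rfl fun b _ => ?_)
      show prl (fun d => d + 1) (tyl p b) = _
      rw [prl_eq, coe_tyl, card_Bp])
    (by
      rw [Multiset.map_map, zero_add]
      exact hok)
    hN
  refine ⟨w, hw, hwM.trans ?_⟩
  rw [Multiset.map_map]
  rfl

end Cfsg.Agent.R2.SL2
end

-- part: R2/SL2/Cnt
section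
/-!
# Fixed spaces of elements of order 2 and 3 on `V_b` (R2/SL2, helper17)

* `cn p b n` : the number of `m ∈ Bp p b` with `n ∣ 2 m - b`;
* `card_filter_zpow` : `#{m ∈ Bp p b | x ^ (2 m - b) = 1} = cn p b (orderOf x)`;
* `cn_four` : `2 cn p b 4 = |Bp p b| + ∏ t2 b_i` for `b` even, `p ≠ 2`;
* `cn_three` : `3 cn p b 3 = |Bp p b| + 2 ∏ t3 b_i`, `p ≠ 3`;
* `even_iff` : for `p` odd, `b` is even if and only if the sum of its digits is even.
-/

set_option autoImplicit false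

namespace Cfsg.Agent.R2.SL2

open Finset

/-- the number of `m ∈ Bp p b` with `n ∣ 2 m - b` -/
def cn (p b n : ℕ) : ℕ := ((Bp p b).filter fun m : ℕ => (n : ℤ) ∣ 2 * (m : ℤ) - b).card

theorem card_filter_zpow {G : Type*} [Group G] [DecidableEq G] (p b : ℕ) (x : G) :
    ((Bp p b).filter fun m : ℕ => x ^ (2 * (m : ℤ) - b) = 1).card = cn p b (orderOf x) := by
  unfold cn
  congr 1
  refine Finset.filter_congr fun m _ => ?_
  rw [orderOf_dvd_iff_zpow_eq_one]

theorem even_iff {p : ℕ} [hp : Fact p.Prime] (hp2 : p ≠ 2) (b : ℕ) : Even b ↔ Even (typ p b).sum := by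
  refine rec_digits (p := p) (P := fun b => Even b ↔ Even (typ p b).sum) ?_ ?_ b
  · rw [typ_zero, Multiset.sum_zero]
  · intro b hb ih
    have hodd : Odd p := (hp.out.eq_two_or_odd').resolve_left hp2
    have h1 : (typ p b).sum = b % p + (typ p (b / p)).sum := by
      rw [typ_step hp.out.one_lt hb, Multiset.sum_add]
      split_ifs with h
      · rw [h, Multiset.sum_zero]
      · rw [Multiset.sum_singleton]
    rw [h1, Nat.even_add, ← ih]
    conv_lhs => rw [← Nat.div_add_mod b p, Nat.even_add, Nat.even_mul]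
    rw [← Nat.not_even_iff_odd] at hodd
    itauto

section

variable {p : ℕ} [hp : Fact p.Prime]

omit hp in
theorem Bp_symm {b m : ℕ} (h : m ∈ Bp p b) : b - m ∈ Bp p b := by
  rw [mem_Bp] at h ⊢
  refine ⟨Nat.sub_le _ _, ?_⟩
  rw [Nat.choose_symm h.1]
  exact h.2

theorem cn_four (hp2 : p ≠ 2) {b : ℕ} (hb : Even b) :
    2 * (cn p b 4 : ℤ) = (Bp p b).card + pr t2 (typ p b) := by
  have h1 : ch p b (Units.mk0 Complex.I Complex.I_ne_zero) = ((pr t2 (typ p b) : ℤ) : ℂ) :=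
    ch_four hp2 b (x := Units.mk0 Complex.I Complex.I_ne_zero) Complex.I_sq
  have h2 : ∀ m ∈ Bp p b, (((Units.mk0 Complex.I Complex.I_ne_zero) ^ (2 * (m : ℤ) - b) : ℂˣ) : ℂ) =
      if (4 : ℤ) ∣ 2 * (m : ℤ) - b then 1 else -1 := by
    intro m _
    obtain ⟨c, hc⟩ := hb
    have h4 : (2 * (m : ℤ) - b) = 2 * ((m : ℤ) - c) := by rw [hc]; push_cast; ring
    rw [h4, zpow_mul, Units.val_zpow_eq_zpow_val]
    have h5 : (((Units.mk0 Complex.I Complex.I_ne_zero) ^ (2 : ℤ) : ℂˣ) : ℂ) = -1 := by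
      rw [Units.val_zpow_eq_zpow_val]
      show Complex.I ^ (2 : ℤ) = -1
      exact_mod_cast Complex.I_sq
    rw [h5]
    by_cases h : (4 : ℤ) ∣ 2 * ((m : ℤ) - c)
    · rw [if_pos h]
      exact Even.neg_one_zpow (by rw [even_iff_two_dvd]; omega)
    · rw [if_neg h]
      exact Odd.neg_one_zpow (by rw [← Int.not_even_iff_odd, even_iff_two_dvd]; omega)
  have h3 : ((2 * (cn p b 4 : ℤ) - (Bp p b).card : ℤ) : ℂ) = ((pr t2 (typ p b) : ℤ) : ℂ) := by
    rw [← h1]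
    unfold ch
    rw [Finset.sum_congr rfl h2, Finset.sum_ite, Finset.sum_const, Finset.sum_const]
    have h6 : ((Bp p b).filter fun m : ℕ => (4 : ℤ) ∣ 2 * (m : ℤ) - b).card +
        ((Bp p b).filter fun m : ℕ => ¬ (4 : ℤ) ∣ 2 * (m : ℤ) - b).card = (Bp p b).card :=
      Finset.card_filter_add_card_filter_not _
    have h7 : cn p b 4 = ((Bp p b).filter fun m : ℕ => (4 : ℤ) ∣ 2 * (m : ℤ) - b).card := rfl
    rw [← h7] at h6 ⊢
    rw [← h6]
    simp only [nsmul_eq_mul]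
    push_cast
    ring
  have h8 := Int.cast_injective h3
  linarith

theorem cn_three (hp3 : p ≠ 3) (b : ℕ) : 3 * (cn p b 3 : ℤ) = (Bp p b).card + 2 * pr t3 (typ p b) := by
  obtain ⟨w, hw⟩ : ∃ w : ℂˣ, (w : ℂ) ^ 2 + w + 1 = 0 := by
    have h := Complex.isPrimitiveRoot_exp 3 (by norm_num)
    have h0 : Complex.exp (2 * Real.pi * Complex.I / (3 : ℕ)) ≠ 0 := Complex.exp_ne_zero _
    refine ⟨Units.mk0 _ h0, ?_⟩
    show Complex.exp (2 * Real.pi * Complex.I / (3 : ℕ)) ^ 2 + Complex.exp (2 * Real.pi * Complex.I / (3 : ℕ)) + 1 = 0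
    have hg := h.geom_sum_eq_zero (by norm_num)
    rw [Finset.sum_range_succ, Finset.sum_range_succ, Finset.sum_range_one] at hg
    linear_combination hg
  have h1 : ch p b w = ((pr t3 (typ p b) : ℤ) : ℂ) := ch_three hp3 b hw
  have hw3 : w ^ 3 = 1 := Units.ext (by
    rw [Units.val_pow_eq_pow_val, Units.val_one]
    linear_combination ((w : ℂ) - 1) * hw)
  have hsum : ∀ z : ℤ, ((w ^ z : ℂˣ) : ℂ) + ((w ^ (-z) : ℂˣ) : ℂ) = if (3 : ℤ) ∣ z then 2 else -1 := by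
    intro z
    have hmod : ∀ y : ℤ, w ^ y = w ^ (y % 3) := by
      intro y
      conv_lhs => rw [← Int.mul_ediv_add_emod y 3, zpow_add, zpow_mul, show w ^ (3 : ℤ) = 1 from by exact_mod_cast hw3,
        one_zpow, one_mul]
    have hlt : z % 3 < 3 := Int.emod_lt_of_pos _ (by norm_num)
    have hge : 0 ≤ z % 3 := Int.emod_nonneg _ (by norm_num)
    have hw2 : ((w ^ (2 : ℤ) : ℂˣ) : ℂ) = (w : ℂ) ^ 2 := by
      rw [Units.val_zpow_eq_zpow_val]
      exact_mod_cast rfl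
    rcases (by omega : z % 3 = 0 ∨ z % 3 = 1 ∨ z % 3 = 2) with h | h | h
    · rw [if_pos (by omega), hmod z, hmod (-z), h, (by omega : (-z) % 3 = 0), zpow_zero, Units.val_one]
      norm_num
    · rw [if_neg (by omega), hmod z, hmod (-z), h, (by omega : (-z) % 3 = 2), zpow_one, hw2]
      linear_combination hw
    · rw [if_neg (by omega), hmod z, hmod (-z), h, (by omega : (-z) % 3 = 1), zpow_one, hw2]
      linear_combination hw
  have hflip : ch p b w = ∑ m ∈ Bp p b, ((w ^ (-(2 * (m : ℤ) - b)) : ℂˣ) : ℂ) := by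
    unfold ch
    refine Finset.sum_nbij' (fun m => b - m) (fun m => b - m) (fun m hm => Bp_symm hm) (fun m hm => Bp_symm hm) ?_ ?_ ?_
    · intro m hm
      have := (mem_Bp.1 hm).1
      show b - (b - m) = m
      omega
    · intro m hm
      have := (mem_Bp.1 hm).1
      show b - (b - m) = m
      omega
    · intro m hm
      have := (mem_Bp.1 hm).1
      congr 2
      rw [Nat.cast_sub this]
      ring
  have h3 : ((3 * (cn p b 3 : ℤ) - (Bp p b).card : ℤ) : ℂ) = ((2 * pr t3 (typ p b) : ℤ) : ℂ) := by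
    have h4 : ((2 * pr t3 (typ p b) : ℤ) : ℂ) = ch p b w + ch p b w := by
      push_cast
      rw [h1]
      ring
    rw [h4]
    nth_rw 2 [hflip]
    unfold ch
    rw [← Finset.sum_add_distrib, Finset.sum_congr rfl fun (m : ℕ) _ => hsum (2 * (m : ℤ) - b), Finset.sum_ite,
      Finset.sum_const, Finset.sum_const]
    have h6 : ((Bp p b).filter fun m : ℕ => (3 : ℤ) ∣ 2 * (m : ℤ) - b).card +
        ((Bp p b).filter fun m : ℕ => ¬ (3 : ℤ) ∣ 2 * (m : ℤ) - b).card = (Bp p b).card :=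
      Finset.card_filter_add_card_filter_not _
    have h7 : cn p b 3 = ((Bp p b).filter fun m : ℕ => (3 : ℤ) ∣ 2 * (m : ℤ) - b).card := rfl
    rw [← h7] at h6 ⊢
    rw [← h6]
    simp only [nsmul_eq_mul]
    push_cast
    ring
  have h8 := Int.cast_injective h3
  linarith

end

end Cfsg.Agent.R2.SL2
end

-- part: R2/SL2/Lists
section
/-!
# Composition patterns of the 27-dimensional (`E6`) and 26-dimensional (`F4`) modules restricted to `PSL2(p^a)`
(R2/SL2, helper17)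

Kernel-checked lists (`w` is a list of sorted digit lists, `[]` = trivial factor):
* `listE6` (`p ≥ 5`, 105 patterns), `listE6_3` (`p = 3`), `listE6_2` (`p = 2`);
* `listF4` (`p ≥ 5`), `listF4_3` (`p = 3`), `listF4_2` (`p = 2`).
-/

set_option autoImplicit false
set_option maxRecDepth 100000

namespace Cfsg.Agent.R2.SL2

/-- even digit sum -/
def evenL (l : List ℕ) : Bool := l.sum % 2 == 0

/-- the traces of the elements of order 2 and 3 -/
def val23 (l : List ℕ) : ℤ × ℤ := (prl t2 l, prl t3 l)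

/-- admissible traces, E6 -/
def okE6 (t : ℤ × ℤ) : Bool := (t.1 == 3 || t.1 == -5) && (t.2 == 0 || t.2 == 9)

/-- the composition patterns, E6, `p ≥ 5` -/
def listE6 : List (List (List ℕ)) :=
   [[[], [], [], [], [], [], [], [], [], [2], [2], [2], [2], [2], [2]],
    [[], [], [], [], [], [], [], [], [1, 1], [2], [2], [2], [2], [2]],
    [[], [], [], [], [], [], [], [], [2], [2], [2], [2], [6]],
    [[], [], [], [], [], [], [], [1, 1], [1, 1], [2], [2], [2], [2]],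
    [[], [], [], [], [], [], [], [1, 1], [2], [2], [2], [6]],
    [[], [], [], [], [], [], [], [2], [2], [6], [6]],
    [[], [], [], [], [], [], [1, 1], [1, 1], [1, 1], [2], [2], [2]],
    [[], [], [], [], [], [], [1, 1], [1, 1], [2], [2], [6]],
    [[], [], [], [], [], [], [1, 1], [2], [6], [6]],
    [[], [], [], [], [], [], [6], [6], [6]],
    [[], [], [], [], [], [1, 1], [1, 1], [1, 1], [1, 1], [2], [2]],
    [[], [], [], [], [], [1, 1], [1, 1], [1, 1], [2], [6]],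
    [[], [], [], [], [], [1, 1], [1, 1], [6], [6]],
    [[], [], [], [], [1, 1], [1, 1], [1, 1], [1, 1], [1, 1], [2]],
    [[], [], [], [], [1, 1], [1, 1], [1, 1], [1, 1], [6]],
    [[], [], [], [1, 1], [1, 1], [1, 1], [1, 1], [1, 1], [1, 1]],
    [[], [], [], [1, 3], [1, 3], [1, 3]],
    [[], [], [], [1, 3], [1, 3], [2], [4]],
    [[], [], [], [1, 3], [2], [2], [4], [4]],
    [[], [], [], [1, 3], [4], [10]],
    [[], [], [], [2], [2], [2], [4], [4], [4]],
    [[], [], [], [2], [4], [4], [10]],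
    [[], [], [1, 1], [1, 3], [1, 3], [4]],
    [[], [], [1, 1], [1, 3], [2], [4], [4]],
    [[], [], [1, 1], [2], [2], [4], [4], [4]],
    [[], [], [1, 1], [4], [4], [10]],
    [[], [], [1, 1, 2], [1, 3], [4]],
    [[], [], [1, 1, 2], [2], [4], [4]],
    [[], [], [1, 1, 4], [4]],
    [[], [], [1, 3], [1, 3], [2, 2]],
    [[], [], [1, 3], [1, 3], [8]],
    [[], [], [1, 3], [1, 5], [4]],
    [[], [], [1, 3], [2], [2, 2], [4]],
    [[], [], [1, 3], [2], [4], [8]],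
    [[], [], [1, 3], [4], [4], [6]],
    [[], [], [1, 3], [16]],
    [[], [], [1, 5], [2], [4], [4]],
    [[], [], [1, 9], [4]],
    [[], [], [2], [2], [2, 2], [4], [4]],
    [[], [], [2], [2], [4], [4], [8]],
    [[], [], [2], [4], [4], [4], [6]],
    [[], [], [2], [4], [16]],
    [[], [], [2, 2], [4], [10]],
    [[], [], [2, 4], [4], [4]],
    [[], [], [4], [4], [14]],
    [[], [], [4], [8], [10]],
    [[], [1, 1], [1, 1], [1, 3], [4], [4]],
    [[], [1, 1], [1, 1], [2], [4], [4], [4]],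
    [[], [1, 1], [1, 1, 2], [4], [4]],
    [[], [1, 1], [1, 3], [2, 2], [4]],
    [[], [1, 1], [1, 3], [4], [8]],
    [[], [1, 1], [1, 5], [4], [4]],
    [[], [1, 1], [2], [2, 2], [4], [4]],
    [[], [1, 1], [2], [4], [4], [8]],
    [[], [1, 1], [4], [4], [4], [6]],
    [[], [1, 1], [4], [16]],
    [[], [1, 1, 1, 1], [4], [4]],
    [[], [1, 1, 2], [2, 2], [4]],
    [[], [1, 1, 2], [4], [8]],
    [[], [1, 3], [2], [2], [2], [2], [2], [2]],
    [[], [1, 3], [2, 2], [2, 2]],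
    [[], [1, 3], [2, 2], [8]],
    [[], [1, 3], [4], [12]],
    [[], [1, 3], [8], [8]],
    [[], [1, 5], [2, 2], [4]],
    [[], [1, 5], [4], [8]],
    [[], [1, 7], [4], [4]],
    [[], [2], [2], [2], [2], [2], [2], [2], [4]],
    [[], [2], [2], [2], [2], [2], [10]],
    [[], [2], [2, 2], [2, 2], [4]],
    [[], [2], [2, 2], [4], [8]],
    [[], [2], [4], [4], [12]],
    [[], [2], [4], [8], [8]],
    [[], [2, 2], [4], [4], [6]],
    [[], [2, 2], [16]],
    [[], [2, 6], [4]],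
    [[], [3, 3], [4], [4]],
    [[], [4], [4], [6], [8]],
    [[], [4], [20]],
    [[], [8], [16]],
    [[1, 1], [1, 1], [1, 1], [4], [4], [4]],
    [[1, 1], [1, 1], [2, 2], [4], [4]],
    [[1, 1], [1, 1], [4], [4], [8]],
    [[1, 1], [1, 3], [2], [2], [2], [2], [2]],
    [[1, 1], [2], [2], [2], [2], [2], [2], [4]],
    [[1, 1], [2], [2], [2], [2], [10]],
    [[1, 1], [2, 2], [2, 2], [4]],
    [[1, 1], [2, 2], [4], [8]],
    [[1, 1], [4], [4], [12]],
    [[1, 1], [4], [8], [8]],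
    [[1, 1, 2], [2], [2], [2], [2], [2]],
    [[1, 3], [2], [2], [2], [2], [6]],
    [[1, 5], [2], [2], [2], [2], [2]],
    [[2], [2], [2], [2], [2], [2], [2, 2]],
    [[2], [2], [2], [2], [2], [2], [8]],
    [[2], [2], [2], [2], [2], [4], [6]],
    [[2], [2], [2], [2], [2, 4]],
    [[2], [2], [2], [2], [14]],
    [[2], [2], [2], [6], [10]],
    [[2, 2], [2, 2], [2, 2]],
    [[2, 2], [2, 2], [8]],
    [[2, 2], [4], [12]],
    [[2, 2], [8], [8]],
    [[4], [8], [12]],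
    [[8], [8], [8]]]

private noncomputable def _root_.Cfsg.Agent.KO9f1a8ff.k0 : ((x0 : Prop) → ((@Decidable @x0) → @Bool)) := @(fun (x0 : Prop) (x1 : @Decidable @x0) => @Decidable.rec.{1} @x0 @(fun (x2 : @Decidable @x0) => @Bool) @(fun (x2 : @Not @x0) => @Bool.false) @(fun (x2 : x0) => @Bool.true) @x1)
private theorem _root_.Cfsg.Agent.KO9f1a8ff.e0 : @Decidable.decide = @_root_.Cfsg.Agent.KO9f1a8ff.k0 := by delta _root_.Cfsg.Agent.KO9f1a8ff.k0; rfl'
private noncomputable def _root_.Cfsg.Agent.KO9f1a8ff.k1 : ((x0 : @Nat) → ((x1 : @Nat) → @Decidable (@Eq.{1} @Nat @x0 @x1))) := @(fun (x0 : @Nat) (x1 : @Nat) => @Bool.rec.{1} @(fun (x2 : @Bool) => ((@Eq.{1} @Bool (@Nat.beq @x0 @x1) @x2) → @Decidable (@Eq.{1} @Nat @x0 @x1))) @(fun (x2 : @Eq.{1} @Bool (@Nat.beq @x0 @x1) @Bool.false) => @Decidable.isFalse (@Eq.{1} @Nat @x0 @x1) (@Nat.ne_of_beq_eq_false @x0 @x1 @x2)) @(fun (x2 : @Eq.{1} @Bool (@Nat.beq @x0 @x1) @Bool.true)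 => @Decidable.isTrue (@Eq.{1} @Nat @x0 @x1) (@Nat.eq_of_beq_eq_true @x0 @x1 @x2)) (@Nat.beq @x0 @x1) (@Eq.refl.{1} @Bool (@Nat.beq @x0 @x1)))
private theorem _root_.Cfsg.Agent.KO9f1a8ff.e1 : @Nat.decEq = @_root_.Cfsg.Agent.KO9f1a8ff.k1 := by delta _root_.Cfsg.Agent.KO9f1a8ff.k1; rfl'
private noncomputable def _root_.Cfsg.Agent.KO9f1a8ff.k2 : @DecidableEq.{1} @Nat := @Cfsg.Agent.KO9f1a8ff.k1
private theorem _root_.Cfsg.Agent.KO9f1a8ff.e2 : @instDecidableEqNat = @_root_.Cfsg.Agent.KO9f1a8ff.k2 := by delta _root_.Cfsg.Agent.KO9f1a8ff.k2; rewrite [← Cfsg.Agent.KO9f1a8ff.e1]; rfl'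
private theorem _root_.Cfsg.Agent.KO9f1a8ff.e3.{ku, kv} {α : Type kv} {M : List α → Sort ku} (φ : ∀ l, M l) {z : M List.nil} {s : ∀ a l, M l → M (List.cons a l)} (h0 : φ List.nil = z) (hs : ∀ a l, φ (List.cons a l) = s a l (φ l)) (l : List α) : φ l = @List.rec α M z s l := List.rec h0 (fun a l ih => (hs a l).trans (congrArg (s a l) ih)) l
private noncomputable def _root_.Cfsg.Agent.KO9f1a8ff.k4.{ku0} : ((x0 : Sort (ku0+1)) → ((@List.{ku0} @x0) → @Nat)) := @(fun (x0 : Sort (ku0+1)) (x1 : @List.{ku0} @x0) => @List.rec.{1, ku0} @x0 @(fun (x2 : @List.{ku0} @x0) => @Nat) (nat_lit 0) @(fun (x2 : x0) (x3 : @List.{ku0} @x0) (x4 : @Nat) => @Nat.add @x4 (nat_lit 1)) @x1)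
private theorem _root_.Cfsg.Agent.KO9f1a8ff.e4.{ku0} : @List.length.{ku0} = @_root_.Cfsg.Agent.KO9f1a8ff.k4.{ku0} := by delta _root_.Cfsg.Agent.KO9f1a8ff.k4; funext a0 a1; refine (_root_.Cfsg.Agent.KO9f1a8ff.e3 (fun a1 => @List.length.{ku0} a0 a1) ?_ (fun c0 c1 => ?_) a1 :) <;> (rfl')
private noncomputable def _root_.Cfsg.Agent.KO9f1a8ff.k5.{ku0, ku1} : ((x0 : Sort (ku0+1)) → ((x1 : Sort (ku1+1)) → ((x0 → x1) → ((@List.{ku0} @x0) → @List.{ku1} @x1)))) := @(fun (x0 : Sort (ku0+1)) (x1 : Sort (ku1+1)) (x2 : (x0 → x1)) (x3 : @List.{ku0} @x0) => @List.rec.{(ku1+1), ku0} @x0 @(fun (x4 : @List.{ku0} @x0) => @List.{ku1} @x1) (@List.nil.{ku1} @x1) @(fun (x4 : x0) (x5 : @List.{ku0} @x0) (x6 : @List.{ku1} @x1) => @List.cons.{ku1} @x1 (@x2 @x4) @x6) @x3)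
private theorem _root_.Cfsg.Agent.KO9f1a8ff.e5.{ku0, ku1} : @List.map.{ku0, ku1} = @_root_.Cfsg.Agent.KO9f1a8ff.k5.{ku0, ku1} := by delta _root_.Cfsg.Agent.KO9f1a8ff.k5; funext a0 a1 a2 a3; refine (_root_.Cfsg.Agent.KO9f1a8ff.e3 (fun a3 => @List.map.{ku0, ku1} a0 a1 a2 a3) ?_ (fun c0 c1 => ?_) a3 :) <;> (rfl')
private noncomputable def _root_.Cfsg.Agent.KO9f1a8ff.k6.{ku0} : (by first | exact type_of% @Cfsg.Agent.R2.SL2.prl.{ku0} | exact Unit : Sort _) := by first | (refine @Subtype.val _ (fun g => @Cfsg.Agent.R2.SL2.prl.{ku0} = @g) (@Subtype.mk _ _ (@(fun (x0 : Sort (ku0+1)) (x1 : @Mul.{ku0} @x0) (x2 : @One.{ku0} @x0) (x3 : (@Nat → x0)) (x4 : @List.{0} @Nat) => @List.rec.{(ku0+1), 0} @Nat @(fun (x5 : @List.{0} @Nat) => x0) (@One.one.{ku0} @x0 @x2) @(fun (x5 : @Nat) (x6 : @List.{0} @Nat) (x7 : x0) => @Mul.mul.{ku0} @x0 @x1 (@x3 @x5) @x7) @x4)) ?_); funext a0 a1 a2 a3 a4; refine (_root_.Cfsg.Agent.KO9f1a8ff.e3 (fun a4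 => @Cfsg.Agent.R2.SL2.prl.{ku0} a0 a1 a2 a3 a4) ?_ (fun c0 c1 => ?_) a4 :) <;> (rfl')) | exact @Cfsg.Agent.R2.SL2.prl.{ku0} | exact ()
private theorem _root_.Cfsg.Agent.KO9f1a8ff.e6.{ku0} : (by first | exact @Cfsg.Agent.R2.SL2.prl.{ku0} = @_root_.Cfsg.Agent.KO9f1a8ff.k6.{ku0} | exact True : Prop) := by first | (delta _root_.Cfsg.Agent.KO9f1a8ff.k6; exact @Subtype.property _ (fun g => @Cfsg.Agent.R2.SL2.prl.{ku0} = @g) _) | rfl | trivial
private noncomputable def _root_.Cfsg.Agent.KO9f1a8ff.k7.{ku0} : ((x0 : Sort (ku0+1)) → ((x0 → @Bool) → ((@List.{ku0} @x0) → @List.{ku0} @x0))) := @(fun (x0 : Sort (ku0+1)) (x1 : (x0 → @Bool)) (x2 : @List.{ku0} @x0) => @List.rec.{(ku0+1), ku0} @x0 @(fun (x3 : @List.{ku0} @x0) => @List.{ku0} @x0) (@List.nil.{ku0} @x0) @(fun (x3 : x0) (x4 : @List.{ku0} @x0) (x5 : @List.{ku0} @x0) => @Bool.rec.{(ku0+1)} @(fun (x6 : @Bool) => @List.{ku0} @x0) @x5 (@List.cons.{ku0} @x0 @x3 @x5) (@x1 @x3))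 @x2)
private theorem _root_.Cfsg.Agent.KO9f1a8ff.e7.{ku0} : @List.filter.{ku0} = @_root_.Cfsg.Agent.KO9f1a8ff.k7.{ku0} := by delta _root_.Cfsg.Agent.KO9f1a8ff.k7; funext a0 a1 a2; refine (_root_.Cfsg.Agent.KO9f1a8ff.e3 (fun a2 => @List.filter.{ku0} a0 a1 a2) ?_ (fun c0 c1 => ?_) a2 :) <;> (rfl')
private noncomputable def _root_.Cfsg.Agent.KO9f1a8ff.oLe.{ku} (α : Sort ku) (a b : Nat) (f t : α) : α := @Decidable.rec (@LE.le Nat instLENat a b) (fun _ => α) (fun _ => f) (fun _ => t) (Nat.decLe a b)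
private noncomputable def _root_.Cfsg.Agent.KO9f1a8ff.k8.{ku} (α : Sort ku) (a b : Nat) (f t : α) : α := @Bool.rec (fun _ => α) f t (Nat.ble a b)
private theorem _root_.Cfsg.Agent.KO9f1a8ff.e8.{ku} : @_root_.Cfsg.Agent.KO9f1a8ff.oLe.{ku} = @_root_.Cfsg.Agent.KO9f1a8ff.k8.{ku} := funext fun α => funext fun a => funext fun b => funext fun f => funext fun t => by delta _root_.Cfsg.Agent.KO9f1a8ff.oLe _root_.Cfsg.Agent.KO9f1a8ff.k8; cases h : Nat.ble a b <;> cases Nat.decLe a b <;> rename_i g <;> first | rfl | exact absurd (h.symm.trans (Nat.ble_eq_true_of_le g)) Bool.false_ne_true | exact absurd (Nat.le_of_ble_eq_true h) g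
private theorem _root_.Cfsg.Agent.KO9f1a8ff.e9.{ku} {M : Nat → Sort ku} (φ : ∀ n, M n) {z : M Nat.zero} {s : ∀ n, M n → M (Nat.succ n)} (h0 : φ Nat.zero = z) (hs : ∀ n, φ (Nat.succ n) = s n (φ n)) (n : Nat) : φ n = @Nat.rec M z s n := Nat.rec h0 (fun n ih => (hs n).trans (congrArg (s n) ih)) n
private noncomputable def _root_.Cfsg.Agent.KO9f1a8ff.k10.{ku0} : ((x0 : Sort (ku0+1)) → ((@List.{ku0} @x0) → ((@List.{ku0} @x0) → @List.{ku0} @x0))) := @(fun (x0 : Sort (ku0+1)) (x1 : @List.{ku0} @x0) (x2 : @List.{ku0} @x0) => @List.rec.{(ku0+1), ku0} @x0 @(fun (x3 : @List.{ku0} @x0) => ((@List.{ku0} @x0) → @List.{ku0} @x0)) @(fun (x3 : @List.{ku0} @x0) => x3) @(fun (x3 : x0) (x4 : @List.{ku0} @x0) (x5 : ((@List.{ku0} @x0) → @List.{ku0} @x0)) (x6 : @List.{ku0} @x0) => @List.cons.{ku0} @x0 @x3 (@x5 @x6)) @x1 @x2)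
private theorem _root_.Cfsg.Agent.KO9f1a8ff.e10.{ku0} : @List.append.{ku0} = @_root_.Cfsg.Agent.KO9f1a8ff.k10.{ku0} := by delta _root_.Cfsg.Agent.KO9f1a8ff.k10; funext a0 a1 a2; refine (congrFun (_root_.Cfsg.Agent.KO9f1a8ff.e3 (fun a1 a2 => @List.append.{ku0} a0 a1 a2) ?_ (fun c0 c1 => ?_) a1) a2 :) <;> (rfl')
private noncomputable def _root_.Cfsg.Agent.KO9f1a8ff.k11.{ku0} : ((x0 : Sort (ku0+1)) → ((@List.{ku0} (@List.{ku0} @x0)) → @List.{ku0} @x0)) := @(fun (x0 : Sort (ku0+1)) (x1 : @List.{ku0} (@List.{ku0} @x0)) => @List.rec.{(ku0+1), ku0} (@List.{ku0} @x0) @(fun (x2 : @List.{ku0} (@List.{ku0} @x0)) => @List.{ku0} @x0) (@List.nil.{ku0} @x0) @(fun (x2 : @List.{ku0} @x0) (x3 : @List.{ku0} (@List.{ku0} @x0)) (x4 : @List.{ku0} @x0) => @Cfsg.Agent.KO9f1a8ff.k10.{ku0} @x0 @x2 @x4) @x1)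
private theorem _root_.Cfsg.Agent.KO9f1a8ff.e11.{ku0} : @List.flatten.{ku0} = @_root_.Cfsg.Agent.KO9f1a8ff.k11.{ku0} := by delta _root_.Cfsg.Agent.KO9f1a8ff.k11; rewrite [← Cfsg.Agent.KO9f1a8ff.e10.{ku0}]; funext a0 a1; refine (_root_.Cfsg.Agent.KO9f1a8ff.e3 (fun a1 => @List.flatten.{ku0} a0 a1) ?_ (fun c0 c1 => ?_) a1 :) <;> (rfl')
private noncomputable def _root_.Cfsg.Agent.KO9f1a8ff.k12 : (@Nat → (@Nat → ((@optParam.{1} @Nat (@OfNat.ofNat.{0} @Nat (nat_lit 1) (@instOfNatNat (nat_lit 1)))) → @List.{0} @Nat))) := @(fun (x0 : @Nat) (x1 : @Nat) (x2 : @Nat) => @Nat.rec.{1} @(fun (x3 : @Nat) => (@Nat → (@Nat → @List.{0} @Nat))) @(fun (x3 : @Nat) (x4 : @Nat) => @List.nil.{0} @Nat) @(fun (x3 : @Nat) (x4 : (@Nat → (@Nat → @List.{0} @Nat))) (x5 : @Nat) (x6 : @Nat) => @List.cons.{0} @Nat @x5 (@x4 (@Nat.add @x5 @x6) @x6)) @x1 @x0 @x2)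
private theorem _root_.Cfsg.Agent.KO9f1a8ff.e12 : @List.range' = @_root_.Cfsg.Agent.KO9f1a8ff.k12 := by delta _root_.Cfsg.Agent.KO9f1a8ff.k12; funext a0 a1 a2; refine (congrFun (congrFun (_root_.Cfsg.Agent.KO9f1a8ff.e9 (fun a1 a0 a2 => @List.range' a0 a1 a2) ?_ (fun c0 => ?_) a1) a0) a2 :) <;> (rfl')
private noncomputable def _root_.Cfsg.Agent.KO9f1a8ff.k13 : (by first | exact type_of% @Cfsg.Agent.R2.SL2.gen | exact Unit : Sort _) := by first | (refine @Subtype.val _ (fun g => @Cfsg.Agent.R2.SL2.gen = @g) (@Subtype.mk _ _ (@(fun (x0 : @Nat) (x1 : @Nat) (x2 : @Nat) (x3 : @Nat) => @Nat.rec.{1} @(fun (x4 : @Nat) => (@Nat → (@Nat → @List.{0} (@List.{0} @Nat)))) @(fun (x4 : @Nat) (x5 : @Nat) => @List.cons.{0} (@List.{0} @Nat) (@List.nil.{0} @Nat) (@List.nil.{0} (@List.{0} @Nat))) @(fun (x4 : @Nat) (x5 : (@Nat → (@Nat → @List.{0} (@List.{0} @Nat)))) (x6 : @Nat) (x7 : @Nat) => @List.cons.{0} (@List.{0} @Nat) (@List.nil.{0}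 @Nat) (@Cfsg.Agent.KO9f1a8ff.k11.{0} (@List.{0} @Nat) (@Cfsg.Agent.KO9f1a8ff.k5.{0, 0} @Nat (@List.{0} (@List.{0} @Nat)) @(fun (x8 : @Nat) => @Cfsg.Agent.KO9f1a8ff.k8.{1} (@List.{0} (@List.{0} @Nat)) (@Nat.add @x8 (nat_lit 1)) @x7 (@List.nil.{0} (@List.{0} @Nat)) (@Cfsg.Agent.KO9f1a8ff.k5.{0, 0} (@List.{0} @Nat) (@List.{0} @Nat) @(fun (x9 : @List.{0} @Nat) => @List.cons.{0} @Nat @x8 @x9) (@x5 @x8 (@Nat.div @x7 (@Nat.add @x8 (nat_lit 1)))))) (@Cfsg.Agent.KO9f1a8ff.k12 @x6 (@Nat.sub (@Nat.add @x0 (nat_lit 1)) @x6) (nat_lit 1))))) @x1 @x2 @x3)) ?_); rewrite [← Cfsg.Agent.KO9f1a8ff.e12, ← Cfsg.Agent.KO9f1a8ff.e8.{1}, ← Cfsg.Agent.KO9f1a8ff.e5.{0, 0}, ← Cfsg.Agent.KO9f1a8ff.e11.{0}]; funext a0 a1 a2 a3; refine (congrFun (congrFun (_root_.Cfsg.Agent.KO9f1a8ff.e9 (fun a1 a2 a3 => @Cfsg.Agent.R2.SL2.gen a0 a1 a2 a3) ?_ (fun c0 => ?_) a1) a2) a3 :) <;> (rfl')) | exact @Cfsg.Agent.R2.SL2.gen | exact ()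
private theorem _root_.Cfsg.Agent.KO9f1a8ff.e13 : (by first | exact @Cfsg.Agent.R2.SL2.gen = @_root_.Cfsg.Agent.KO9f1a8ff.k13 | exact True : Prop) := by first | (delta _root_.Cfsg.Agent.KO9f1a8ff.k13; exact @Subtype.property _ (fun g => @Cfsg.Agent.R2.SL2.gen = @g) _) | rfl | trivial
private noncomputable def _root_.Cfsg.Agent.KO9f1a8ff.k14.{ku0} : (by first | exact type_of% @Cfsg.Agent.R2.SL2.tys.{ku0} | exact Unit : Sort _) := by first | (refine @Subtype.val _ (fun g => @Cfsg.Agent.R2.SL2.tys.{ku0} = @g) (@Subtype.mk _ _ (@(fun (x0 : Sort (ku0+1)) (x1 : ((@List.{0} @Nat) → x0)) (x2 : ((@List.{0} @Nat) → @Bool)) (x3 : @Nat) (x4 : @Nat) (x5 : @Nat) => @Cfsg.Agent.KO9f1a8ff.k5.{0, ku0} (@List.{0} @Nat) (@Prod.{0, ku0} (@List.{0} @Nat) (@Prod.{0, ku0} @Nat @x0)) @(fun (x6 : @List.{0} @Nat) => @Prod.mk.{0, ku0} (@List.{0} @Nat) (@Prod.{0, ku0} @Nat @x0) @x6 (@Prod.mk.{0, ku0} @Nat @x0 (@Cfsg.Agent.KO9f1a8ff.k6.{0} @Nat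 (@Mul.mk.{0} @Nat @Nat.mul) (@One.mk.{0} @Nat (nat_lit 1)) @(fun (x7 : @Nat) => @Nat.add @x7 (nat_lit 1)) @x6) (@x1 @x6))) (@Cfsg.Agent.KO9f1a8ff.k7.{0} (@List.{0} @Nat) @x2 (@Cfsg.Agent.KO9f1a8ff.k13 @x3 @x4 (nat_lit 1) @x5)))) ?_); rewrite [← Cfsg.Agent.KO9f1a8ff.e13, ← Cfsg.Agent.KO9f1a8ff.e7.{0}, ← Cfsg.Agent.KO9f1a8ff.e6.{0}, ← Cfsg.Agent.KO9f1a8ff.e5.{0, ku0}]; (try delta Cfsg.Agent.R2.SL2.tys); (try generalize @Cfsg.Agent.R2.SL2.prl.{0} = g0); (try generalize @Cfsg.Agent.R2.SL2.gen = g1); rfl') | exact @Cfsg.Agent.R2.SL2.tys.{ku0} | exact ()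
private theorem _root_.Cfsg.Agent.KO9f1a8ff.e14.{ku0} : (by first | exact @Cfsg.Agent.R2.SL2.tys.{ku0} = @_root_.Cfsg.Agent.KO9f1a8ff.k14.{ku0} | exact True : Prop) := by first | (delta _root_.Cfsg.Agent.KO9f1a8ff.k14; exact @Subtype.property _ (fun g => @Cfsg.Agent.R2.SL2.tys.{ku0} = @g) _) | rfl | trivial
private noncomputable def _root_.Cfsg.Agent.KO9f1a8ff.k15 : ((@Int) → ((@Int) → @Int)) := @(fun (x0 : @Int) (x1 : @Int) => @Int.rec.{1} @(fun (x2 : @Int) => @Int) @(fun (x2 : @Nat) => @Int.rec.{1} @(fun (x3 : @Int) => @Int) @(fun (x3 : @Nat) => @Int.ofNat (@Nat.mul @x2 @x3)) @(fun (x3 : @Nat) => @Nat.rec.{1} @(fun (x4 : @Nat) => @Int) (@Int.ofNat (nat_lit 0)) @(fun (x4 : @Nat) (x5 : @Int) => @Int.negSucc @x4) (@Nat.mul @x2 (@Nat.succ @x3))) @x1) @(fun (x2 : @Nat) => @Int.rec.{1} @(fun (x3 : @Int) => @Int) @(fun (x3 : @Nat) => @Nat.rec.{1} @(fun (x4 : @Nat) => @Int) (@Int.ofNat (nat_lit 0)) @(fun (x4 : @Nat) (x5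 : @Int) => @Int.negSucc @x4) (@Nat.mul (@Nat.succ @x2) @x3)) @(fun (x3 : @Nat) => @Int.ofNat (@Nat.mul (@Nat.succ @x2) (@Nat.succ @x3))) @x1) @x0)
private theorem _root_.Cfsg.Agent.KO9f1a8ff.e15 : @Int.mul = @_root_.Cfsg.Agent.KO9f1a8ff.k15 := by delta _root_.Cfsg.Agent.KO9f1a8ff.k15; rfl'
private noncomputable def _root_.Cfsg.Agent.KO9f1a8ff.oEq.{ku} (α : Sort ku) (a b : Nat) (f t : α) : α := @Decidable.rec (a = b) (fun _ => α) (fun _ => f) (fun _ => t) (Nat.decEq a b)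
private noncomputable def _root_.Cfsg.Agent.KO9f1a8ff.k16.{ku} (α : Sort ku) (a b : Nat) (f t : α) : α := @Bool.rec (fun _ => α) f t (Nat.beq a b)
private theorem _root_.Cfsg.Agent.KO9f1a8ff.e16.{ku} : @_root_.Cfsg.Agent.KO9f1a8ff.oEq.{ku} = @_root_.Cfsg.Agent.KO9f1a8ff.k16.{ku} := funext fun α => funext fun a => funext fun b => funext fun f => funext fun t => by delta _root_.Cfsg.Agent.KO9f1a8ff.oEq _root_.Cfsg.Agent.KO9f1a8ff.k16; cases h : Nat.beq a b <;> cases Nat.decEq a b <;> rename_i g <;> first | rfl | exact absurd g (Nat.ne_of_beq_eq_false h) | exact absurd (Nat.eq_of_beq_eq_true h) g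
private noncomputable def _root_.Cfsg.Agent.KO9f1a8ff.k17 : (by first | exact type_of% @Cfsg.Agent.R2.SL2.t2 | exact Unit : Sort _) := by first | (refine @Subtype.val _ (fun g => @Cfsg.Agent.R2.SL2.t2 = @g) (@Subtype.mk _ _ (@(fun (x0 : @Nat) => @Cfsg.Agent.KO9f1a8ff.k16.{1} @Int (@Nat.mod @x0 (nat_lit 4)) (nat_lit 0) (@Cfsg.Agent.KO9f1a8ff.k16.{1} @Int (@Nat.mod @x0 (nat_lit 4)) (nat_lit 2) (@Int.ofNat (nat_lit 0)) (@Nat.rec.{1} @(fun (x1 : @Nat) => @Int) (@Int.ofNat (nat_lit 0)) @(fun (x1 : @Nat) (x2 : @Int) => @Int.negSucc @x1) (nat_lit 1))) (@Int.ofNat (nat_lit 1)))) ?_); rewrite [← Cfsg.Agent.KO9f1a8ff.e16.{1}]; rfl') | exact @Cfsg.Agent.R2.SL2.t2 | exact ()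
private theorem _root_.Cfsg.Agent.KO9f1a8ff.e17 : (by first | exact @Cfsg.Agent.R2.SL2.t2 = @_root_.Cfsg.Agent.KO9f1a8ff.k17 | exact True : Prop) := by first | (delta _root_.Cfsg.Agent.KO9f1a8ff.k17; exact @Subtype.property _ (fun g => @Cfsg.Agent.R2.SL2.t2 = @g) _) | rfl | trivial
private noncomputable def _root_.Cfsg.Agent.KO9f1a8ff.k18 : (by first | exact type_of% @Cfsg.Agent.R2.SL2.t3 | exact Unit : Sort _) := by first | (refine @Subtype.val _ (fun g => @Cfsg.Agent.R2.SL2.t3 = @g) (@Subtype.mk _ _ (@(fun (x0 : @Nat) => @Cfsg.Agent.KO9f1a8ff.k16.{1} @Int (@Nat.mod @x0 (nat_lit 3)) (nat_lit 0) (@Cfsg.Agent.KO9f1a8ff.k16.{1} @Int (@Nat.mod @x0 (nat_lit 3)) (nat_lit 1) (@Int.ofNat (nat_lit 0)) (@Nat.rec.{1} @(fun (x1 : @Nat) => @Int) (@Int.ofNat (nat_lit 0)) @(fun (x1 : @Nat) (x2 : @Int) => @Int.negSucc @x1) (nat_lit 1))) (@Int.ofNat (nat_lit 1)))) ?_); rewrite [← Cfsg.Agent.KO9f1a8ff.e16.{1}]; rfl') | exact @Cfsg.Agent.R2.SL2.t3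 | exact ()
private theorem _root_.Cfsg.Agent.KO9f1a8ff.e18 : (by first | exact @Cfsg.Agent.R2.SL2.t3 = @_root_.Cfsg.Agent.KO9f1a8ff.k18 | exact True : Prop) := by first | (delta _root_.Cfsg.Agent.KO9f1a8ff.k18; exact @Subtype.property _ (fun g => @Cfsg.Agent.R2.SL2.t3 = @g) _) | rfl | trivial
private noncomputable def _root_.Cfsg.Agent.KO9f1a8ff.k19 : (by first | exact type_of% @Cfsg.Agent.R2.SL2.val23 | exact Unit : Sort _) := by first | (refine @Subtype.val _ (fun g => @Cfsg.Agent.R2.SL2.val23 = @g) (@Subtype.mk _ _ (@(fun (x0 : @List.{0} @Nat) => @Prod.mk.{0, 0} @Int @Int (@Cfsg.Agent.KO9f1a8ff.k6.{0} @Int (@Mul.mk.{0} @Int @Cfsg.Agent.KO9f1a8ff.k15) (@One.mk.{0} @Int (@Int.ofNat (nat_lit 1))) @Cfsg.Agent.KO9f1a8ff.k17 @x0) (@Cfsg.Agent.KO9f1a8ff.k6.{0} @Int (@Mul.mk.{0} @Int @Cfsg.Agent.KO9f1a8ff.k15) (@One.mk.{0} @Int (@Int.ofNat (nat_lit 1))) @Cfsg.Agent.KO9f1a8ff.k18 @x0))) ?_); rewrite [← Cfsg.Agent.KO9f1a8ff.e18,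 ← Cfsg.Agent.KO9f1a8ff.e17, ← Cfsg.Agent.KO9f1a8ff.e15, ← Cfsg.Agent.KO9f1a8ff.e6.{0}]; (try delta Cfsg.Agent.R2.SL2.val23); (try generalize @Cfsg.Agent.R2.SL2.prl.{0} = g0); (try generalize @Cfsg.Agent.R2.SL2.t2 = g1); (try generalize @Cfsg.Agent.R2.SL2.t3 = g2); rfl') | exact @Cfsg.Agent.R2.SL2.val23 | exact ()
private theorem _root_.Cfsg.Agent.KO9f1a8ff.e19 : (by first | exact @Cfsg.Agent.R2.SL2.val23 = @_root_.Cfsg.Agent.KO9f1a8ff.k19 | exact True : Prop) := by first | (delta _root_.Cfsg.Agent.KO9f1a8ff.k19; exact @Subtype.property _ (fun g => @Cfsg.Agent.R2.SL2.val23 = @g) _) | rfl | trivial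
private noncomputable def _root_.Cfsg.Agent.KO9f1a8ff.k20.{ku0, ku1} : ((x0 : Sort (ku0+1)) → ((x1 : Sort (ku1+1)) → ((x0 → (x1 → x1)) → (x1 → ((@List.{ku0} @x0) → x1))))) := @(fun (x0 : Sort (ku0+1)) (x1 : Sort (ku1+1)) (x2 : (x0 → (x1 → x1))) (x3 : x1) (x4 : @List.{ku0} @x0) => @List.rec.{(ku1+1), ku0} @x0 @(fun (x5 : @List.{ku0} @x0) => x1) @x3 @(fun (x5 : x0) (x6 : @List.{ku0} @x0) (x7 : x1) => @x2 @x5 @x7) @x4)
private theorem _root_.Cfsg.Agent.KO9f1a8ff.e20.{ku0, ku1} : @List.foldr.{ku0, ku1} = @_root_.Cfsg.Agent.KO9f1a8ff.k20.{ku0, ku1} := by delta _root_.Cfsg.Agent.KO9f1a8ff.k20; funext a0 a1 a2 a3 a4; refine (_root_.Cfsg.Agent.KO9f1a8ff.e3 (fun a4 => @List.foldr.{ku0, ku1} a0 a1 a2 a3 a4) ?_ (fun c0 c1 => ?_) a4 :) <;> (rfl')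
private noncomputable def _root_.Cfsg.Agent.KO9f1a8ff.k21 : (by first | exact type_of% @Cfsg.Agent.R2.SL2.evenL | exact Unit : Sort _) := by first | (refine @Subtype.val _ (fun g => @Cfsg.Agent.R2.SL2.evenL = @g) (@Subtype.mk _ _ (@(fun (x0 : @List.{0} @Nat) => @Cfsg.Agent.KO9f1a8ff.k16.{1} @Bool (@Nat.mod (@Cfsg.Agent.KO9f1a8ff.k20.{0, 0} @Nat @Nat @(fun (x1 : @Nat) (x2 : @Nat) => @Nat.add @x1 @x2) (nat_lit 0) @x0) (nat_lit 2)) (nat_lit 0) @Bool.false @Bool.true)) ?_); rewrite [← Cfsg.Agent.KO9f1a8ff.e20.{0, 0}, ← Cfsg.Agent.KO9f1a8ff.e16.{1}]; rfl') | exact @Cfsg.Agent.R2.SL2.evenL | exact ()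
private theorem _root_.Cfsg.Agent.KO9f1a8ff.e21 : (by first | exact @Cfsg.Agent.R2.SL2.evenL = @_root_.Cfsg.Agent.KO9f1a8ff.k21 | exact True : Prop) := by first | (delta _root_.Cfsg.Agent.KO9f1a8ff.k21; exact @Subtype.property _ (fun g => @Cfsg.Agent.R2.SL2.evenL = @g) _) | rfl | trivial

theorem tys_E6 : (tys val23 evenL 26 4 27).length = 32 := by (first | (refine of_decide_eq_true ?_; rewrite [Cfsg.Agent.KO9f1a8ff.e0, Cfsg.Agent.KO9f1a8ff.e2, Cfsg.Agent.KO9f1a8ff.e4.{0}, Cfsg.Agent.KO9f1a8ff.e14.{0}, Cfsg.Agent.KO9f1a8ff.e19, Cfsg.Agent.KO9f1a8ff.e21]; decide +kernel) | decide +kernel)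

private noncomputable def _root_.Cfsg.Agent.KO9f1a8ff.k23.{ku0} : ((x0 : Sort (ku0+1)) → ((@DecidableEq.{(ku0+1)} @x0) → ((x2 : @List.{ku0} @x0) → ((x3 : @List.{ku0} @x0) → @Decidable (@Eq.{(ku0+1)} (@List.{ku0} @x0) @x2 @x3))))) := @(fun (x0 : Sort (ku0+1)) (x1 : @DecidableEq.{(ku0+1)} @x0) (x2 : @List.{ku0} @x0) (x3 : @List.{ku0} @x0) => @List.rec.{(ku0+1), ku0} @x0 @(fun (x4 : @List.{ku0} @x0) => ((x5 : @List.{ku0} @x0) → @Decidable (@Eq.{(ku0+1)} (@List.{ku0} @x0) @x4 @x5))) @(fun (x4 : @List.{ku0} @x0) => @List.rec.{1, ku0} @x0 @(fun (x5 : @List.{ku0} @x0) => @Decidable (@Eq.{(ku0+1)} (@List.{ku0} @x0) (@List.nil.{ku0} @x0) @x5)) (@Decidable.isTrue (@Eq.{(ku0+1)} (@List.{ku0} @x0) (@List.nil.{ku0} @x0) (@List.nil.{ku0} @x0)) (@List.hasDecEq._proof_1.{ku0} @x0)) @(fun (x5 : x0) (x6 : @List.{ku0} @x0) (x7 : @Decidable (@Eq.{(ku0+1)} (@List.{ku0} @x0) (@List.nil.{ku0} @x0) @x6)) => @Decidable.isFalse (@Eq.{(ku0+1)}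 (@List.{ku0} @x0) (@List.nil.{ku0} @x0) (@List.cons.{ku0} @x0 @x5 @x6)) (@List.hasDecEq._proof_3.{ku0} @x0 @x5 @x6)) @x4) @(fun (x4 : x0) (x5 : @List.{ku0} @x0) (x6 : ((x6 : @List.{ku0} @x0) → @Decidable (@Eq.{(ku0+1)} (@List.{ku0} @x0) @x5 @x6))) (x7 : @List.{ku0} @x0) => @List.rec.{1, ku0} @x0 @(fun (x8 : @List.{ku0} @x0) => @Decidable (@Eq.{(ku0+1)} (@List.{ku0} @x0) (@List.cons.{ku0} @x0 @x4 @x5) @x8)) (@Decidable.isFalse (@Eq.{(ku0+1)} (@List.{ku0} @x0) (@List.cons.{ku0} @x0 @x4 @x5) (@List.nil.{ku0} @x0)) (@List.hasDecEq._proof_2.{ku0} @x0 @x4 @x5)) @(fun (x8 : x0) (x9 : @List.{ku0} @x0) (x10 : @Decidable (@Eq.{(ku0+1)} (@List.{ku0} @x0) (@List.cons.{ku0} @x0 @x4 @x5) @x9)) => @Decidable.rec.{1} (@Eq.{(ku0+1)} @x0 @x4 @x8) @(fun (x11 : @Decidable (@Eq.{(ku0+1)} @x0 @x4 @x8)) => @Decidable (@Eq.{(ku0+1)} (@List.{ku0} @x0) (@List.cons.{ku0} @x0 @x4 @x5) (@List.cons.{ku0} @x0 @x8 @x9))) @(fun (x11 : @Not (@Eq.{(ku0+1)}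 @x0 @x4 @x8)) => @Decidable.isFalse (@Eq.{(ku0+1)} (@List.{ku0} @x0) (@List.cons.{ku0} @x0 @x4 @x5) (@List.cons.{ku0} @x0 @x8 @x9)) (@List.hasDecEq._proof_6.{ku0} @x0 @x4 @x5 @x8 @x9 @x11)) @(fun (x11 : @Eq.{(ku0+1)} @x0 @x4 @x8) => @Decidable.rec.{1} (@Eq.{(ku0+1)} (@List.{ku0} @x0) @x5 @x9) @(fun (x12 : @Decidable (@Eq.{(ku0+1)} (@List.{ku0} @x0) @x5 @x9)) => @Decidable (@Eq.{(ku0+1)} (@List.{ku0} @x0) (@List.cons.{ku0} @x0 @x4 @x5) (@List.cons.{ku0} @x0 @x8 @x9))) @(fun (x12 : @Not (@Eq.{(ku0+1)} (@List.{ku0} @x0) @x5 @x9)) => @Decidable.isFalse (@Eq.{(ku0+1)} (@List.{ku0} @x0) (@List.cons.{ku0} @x0 @x4 @x5) (@List.cons.{ku0} @x0 @x8 @x9)) (@List.hasDecEq._proof_5.{ku0} @x0 @x4 @x5 @x8 @x9 @x12)) @(fun (x12 : @Eq.{(ku0+1)} (@List.{ku0} @x0) @x5 @x9) => @Decidable.isTrue (@Eq.{(ku0+1)} (@List.{ku0} @x0) (@List.cons.{ku0} @x0 @x4 @x5) (@List.cons.{ku0} @x0 @x8 @x9)) (@List.hasDecEq._proof_4.{ku0} @x0 @x4 @x5 @x8 @x9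 @x11 @x12)) (@x6 @x9)) (@x1 @x4 @x8)) @x7) @x2 @x3)
private theorem _root_.Cfsg.Agent.KO9f1a8ff.e23.{ku0} : @List.hasDecEq.{ku0} = @_root_.Cfsg.Agent.KO9f1a8ff.k23.{ku0} := by delta _root_.Cfsg.Agent.KO9f1a8ff.k23; funext a0 a1 a2 a3; refine (congrFun (_root_.Cfsg.Agent.KO9f1a8ff.e3 (fun a2 a3 => @List.hasDecEq.{ku0} a0 a1 a2 a3) ?_ (fun c0 c1 => ?_) a2) a3 :) <;> [(funext b0; (cases b0 with | @nil  => (rfl') | @cons b0_0 b0_1 => (rfl'))); (funext b0; (cases b0 with | @nil  => (rfl') | @cons b0_0 b0_1 => (rfl')))]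
private noncomputable def _root_.Cfsg.Agent.KO9f1a8ff.k24.{ku0} : ((x0 : Sort (ku0+1)) → ((@DecidableEq.{(ku0+1)} @x0) → @DecidableEq.{(ku0+1)} (@List.{ku0} @x0))) := @(fun (x0 : Sort (ku0+1)) (x1 : @DecidableEq.{(ku0+1)} @x0) (x2 : @List.{ku0} @x0) (x3 : @List.{ku0} @x0) => @List.rec.{1, ku0} @x0 @(fun (x4 : @List.{ku0} @x0) => @Decidable (@Eq.{(ku0+1)} (@List.{ku0} @x0) @x4 @x3)) (@List.rec.{1, ku0} @x0 @(fun (x4 : @List.{ku0} @x0) => @Decidable (@Eq.{(ku0+1)} (@List.{ku0} @x0) (@List.nil.{ku0} @x0) @x4)) (@Decidable.isTrue (@Eq.{(ku0+1)} (@List.{ku0} @x0) (@List.nil.{ku0} @x0) (@List.nil.{ku0} @x0)) (@List.hasDecEq._proof_1.{ku0} @x0)) @(fun (x4 : x0) (x5 : @List.{ku0} @x0) (x6 : @Decidable (@Eq.{(ku0+1)} (@List.{ku0} @x0) (@List.nil.{ku0} @x0) @x5)) => @Decidable.isFalse (@Eq.{(ku0+1)} (@List.{ku0} @x0) (@List.nil.{ku0} @x0) (@List.cons.{ku0} @x0 @x4 @x5)) (@List.hasDecEq._proof_3.{ku0} @x0 @x4 @x5)) @x3) @(fun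 (x4 : x0) (x5 : @List.{ku0} @x0) (x6 : @Decidable (@Eq.{(ku0+1)} (@List.{ku0} @x0) @x5 @x3)) => @List.rec.{1, ku0} @x0 @(fun (x7 : @List.{ku0} @x0) => @Decidable (@Eq.{(ku0+1)} (@List.{ku0} @x0) (@List.cons.{ku0} @x0 @x4 @x5) @x7)) (@Decidable.isFalse (@Eq.{(ku0+1)} (@List.{ku0} @x0) (@List.cons.{ku0} @x0 @x4 @x5) (@List.nil.{ku0} @x0)) (@List.hasDecEq._proof_2.{ku0} @x0 @x4 @x5)) @(fun (x7 : x0) (x8 : @List.{ku0} @x0) (x9 : @Decidable (@Eq.{(ku0+1)} (@List.{ku0} @x0) (@List.cons.{ku0} @x0 @x4 @x5) @x8)) => @Decidable.rec.{1} (@Eq.{(ku0+1)} @x0 @x4 @x7) @(fun (x10 : @Decidable (@Eq.{(ku0+1)} @x0 @x4 @x7)) => @Decidable (@Eq.{(ku0+1)} (@List.{ku0} @x0) (@List.cons.{ku0} @x0 @x4 @x5) (@List.cons.{ku0} @x0 @x7 @x8))) @(fun (x10 : @Not (@Eq.{(ku0+1)} @x0 @x4 @x7)) => @Decidable.isFalse (@Eq.{(ku0+1)} (@List.{ku0} @x0) (@List.cons.{ku0} @x0 @x4 @x5) (@List.cons.{ku0} @x0 @x7 @x8)) (@List.hasDecEq._proof_6.{ku0} @x0 @x4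 @x5 @x7 @x8 @x10)) @(fun (x10 : @Eq.{(ku0+1)} @x0 @x4 @x7) => @Decidable.rec.{1} (@Eq.{(ku0+1)} (@List.{ku0} @x0) @x5 @x8) @(fun (x11 : @Decidable (@Eq.{(ku0+1)} (@List.{ku0} @x0) @x5 @x8)) => @Decidable (@Eq.{(ku0+1)} (@List.{ku0} @x0) (@List.cons.{ku0} @x0 @x4 @x5) (@List.cons.{ku0} @x0 @x7 @x8))) @(fun (x11 : @Not (@Eq.{(ku0+1)} (@List.{ku0} @x0) @x5 @x8)) => @Decidable.isFalse (@Eq.{(ku0+1)} (@List.{ku0} @x0) (@List.cons.{ku0} @x0 @x4 @x5) (@List.cons.{ku0} @x0 @x7 @x8)) (@List.hasDecEq._proof_5.{ku0} @x0 @x4 @x5 @x7 @x8 @x11)) @(fun (x11 : @Eq.{(ku0+1)} (@List.{ku0} @x0) @x5 @x8) => @Decidable.isTrue (@Eq.{(ku0+1)} (@List.{ku0} @x0) (@List.cons.{ku0} @x0 @x4 @x5) (@List.cons.{ku0} @x0 @x7 @x8)) (@List.hasDecEq._proof_4.{ku0} @x0 @x4 @x5 @x7 @x8 @x10 @x11)) (@Cfsg.Agent.KO9f1a8ff.k23.{ku0} @x0 @x1 @x5 @x8)) (@x1 @x4 @x7)) @x3) @x2)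
private theorem _root_.Cfsg.Agent.KO9f1a8ff.e24.{ku0} : @instDecidableEqList.{ku0} = @_root_.Cfsg.Agent.KO9f1a8ff.k24.{ku0} := by delta _root_.Cfsg.Agent.KO9f1a8ff.k24; rewrite [← Cfsg.Agent.KO9f1a8ff.e23.{ku0}]; rfl'
private noncomputable def _root_.Cfsg.Agent.KO9f1a8ff.oB.{ku} (α : Sort ku) (c : Bool) (f t : α) : α := @Decidable.rec (c = true) (fun _ => α) (fun _ => f) (fun _ => t) (instDecidableEqBool c true)
private noncomputable def _root_.Cfsg.Agent.KO9f1a8ff.k25.{ku} (α : Sort ku) (c : Bool) (f t : α) : α := @Bool.rec (fun _ => α) f t c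
private theorem _root_.Cfsg.Agent.KO9f1a8ff.e25.{ku} : @_root_.Cfsg.Agent.KO9f1a8ff.oB.{ku} = @_root_.Cfsg.Agent.KO9f1a8ff.k25.{ku} := funext fun α => funext fun c => funext fun f => funext fun t => by cases c <;> rfl
private noncomputable def _root_.Cfsg.Agent.KO9f1a8ff.k26.{ku0, ku1} : (by first | exact type_of% @Cfsg.Agent.R2.SL2.pats.{ku0, ku1} | exact Unit : Sort _) := by first | (refine @Subtype.val _ (fun g => @Cfsg.Agent.R2.SL2.pats.{ku0, ku1} = @g) (@Subtype.mk _ _ (@(fun (x0 : Sort (ku0+1)) (x1 : Sort (ku1+1)) (x2 : @Add.{ku1} @x1) (x3 : (x1 → @Bool)) (x4 : @Nat) (x5 : @List.{(max ku1 ku0)} (@Prod.{ku0, ku1} @x0 (@Prod.{0, ku1} @Nat @x1))) (x6 : @Nat) (x7 : x1) => @Nat.rec.{(max (ku0+1) (ku1+1))} @(fun (x8 : @Nat) => ((@List.{(max ku1 ku0)} (@Prod.{ku0, ku1} @x0 (@Prod.{0, ku1} @Nat @x1))) → (@Nat → (x1 → @List.{ku0} (@List.{ku0} @x0))))) @(fun (x8 : @List.{(max ku1 ku0)} (@Prod.{ku0, ku1} @x0 (@Prod.{0,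 ku1} @Nat @x1))) (x9 : @Nat) (x10 : x1) => @List.nil.{ku0} (@List.{ku0} @x0)) @(fun (x8 : @Nat) (x9 : ((@List.{(max ku1 ku0)} (@Prod.{ku0, ku1} @x0 (@Prod.{0, ku1} @Nat @x1))) → (@Nat → (x1 → @List.{ku0} (@List.{ku0} @x0))))) (x10 : @List.{(max ku1 ku0)} (@Prod.{ku0, ku1} @x0 (@Prod.{0, ku1} @Nat @x1))) (x11 : @Nat) (x12 : x1) => @Cfsg.Agent.KO9f1a8ff.k16.{(ku0+1)} (@List.{ku0} (@List.{ku0} @x0)) @x11 (nat_lit 0) (@List.rec.{(ku0+1), (max ku1 ku0)} (@Prod.{ku0, ku1} @x0 (@Prod.{0, ku1} @Nat @x1)) @(fun (x13 : @List.{(max ku1 ku0)} (@Prod.{ku0, ku1} @x0 (@Prod.{0, ku1} @Nat @x1))) => @List.{ku0} (@List.{ku0} @x0)) (@List.nil.{ku0} (@List.{ku0} @x0)) @(fun (x13 : @Prod.{ku0, ku1} @x0 (@Prod.{0, ku1} @Nat @x1)) (x14 : @List.{(max ku1 ku0)} (@Prod.{ku0, ku1} @x0 (@Prod.{0, ku1} @Nat @x1))) (x15 : @List.{ku0} (@List.{ku0} @x0)) => @Cfsg.Agent.KO9f1a8ff.k10.{ku0} (@List.{ku0} @x0) (@Cfsg.Agent.KO9f1a8ff.k8.{(ku0+1)} (@List.{ku0}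 (@List.{ku0} @x0)) (@Prod.fst.{0, ku1} @Nat @x1 (@Prod.snd.{ku0, ku1} @x0 (@Prod.{0, ku1} @Nat @x1) @x13)) @x11 (@List.nil.{ku0} (@List.{ku0} @x0)) (@Cfsg.Agent.KO9f1a8ff.k5.{ku0, ku0} (@List.{ku0} @x0) (@List.{ku0} @x0) @(fun (x16 : @List.{ku0} @x0) => @List.cons.{ku0} @x0 (@Prod.fst.{ku0, ku1} @x0 (@Prod.{0, ku1} @Nat @x1) @x13) @x16) (@x9 (@List.cons.{(max ku0 ku1)} (@Prod.{ku0, ku1} @x0 (@Prod.{0, ku1} @Nat @x1)) @x13 @x14) (@Nat.sub @x11 (@Prod.fst.{0, ku1} @Nat @x1 (@Prod.snd.{ku0, ku1} @x0 (@Prod.{0, ku1} @Nat @x1) @x13))) (@Add.add.{ku1} @x1 @x2 @x12 (@Prod.snd.{0, ku1} @Nat @x1 (@Prod.snd.{ku0, ku1} @x0 (@Prod.{0, ku1} @Nat @x1) @x13)))))) (@x9 @x14 @x11 @x12)) @x10) (@Cfsg.Agent.KO9f1a8ff.k25.{(ku0+1)} (@List.{ku0} (@List.{ku0} @x0)) (@x3 @x12) (@List.nil.{ku0} (@List.{ku0} @x0)) (@List.cons.{ku0} (@List.{ku0} @x0) (@List.nil.{ku0} @x0) (@List.nil.{ku0} (@List.{ku0} @x0))))) @x4 @x5 @x6 @x7)) ?_); rewrite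 [← Cfsg.Agent.KO9f1a8ff.e25.{(ku0+1)}, ← Cfsg.Agent.KO9f1a8ff.e5.{ku0, ku0}, ← Cfsg.Agent.KO9f1a8ff.e8.{(ku0+1)}, ← Cfsg.Agent.KO9f1a8ff.e10.{ku0}, ← Cfsg.Agent.KO9f1a8ff.e16.{(ku0+1)}]; funext a0 a1 a2 a3 a4 a5 a6 a7; refine (congrFun (congrFun (congrFun (_root_.Cfsg.Agent.KO9f1a8ff.e9 (fun a4 a5 a6 a7 => @Cfsg.Agent.R2.SL2.pats.{ku0, ku1} a0 a1 a2 a3 a4 a5 a6 a7) ?_ (fun c0 => ?_) a4) a5) a6) a7 :) <;> (rfl')) | exact @Cfsg.Agent.R2.SL2.pats.{ku0, ku1} | exact ()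
private theorem _root_.Cfsg.Agent.KO9f1a8ff.e26.{ku0, ku1} : (by first | exact @Cfsg.Agent.R2.SL2.pats.{ku0, ku1} = @_root_.Cfsg.Agent.KO9f1a8ff.k26.{ku0, ku1} | exact True : Prop) := by first | (delta _root_.Cfsg.Agent.KO9f1a8ff.k26; exact @Subtype.property _ (fun g => @Cfsg.Agent.R2.SL2.pats.{ku0, ku1} = @g) _) | rfl | trivial
private noncomputable def _root_.Cfsg.Agent.KO9f1a8ff.k27 : ((x0 : @Int) → ((x1 : @Int) → @Decidable (@Eq.{1} @Int @x0 @x1))) := @(fun (x0 : @Int) (x1 : @Int) => @Int.rec.{1} @(fun (x2 : @Int) => @Decidable (@Eq.{1} @Int @x2 @x1)) @(fun (x2 : @Nat) => @Int.rec.{1} @(fun (x3 : @Int) => @Decidable (@Eq.{1} @Int (@Int.ofNat @x2) @x3)) @(fun (x3 : @Nat) => @Decidable.rec.{1} (@Eq.{1} @Nat @x2 @x3) @(fun (x4 : @Decidable (@Eq.{1} @Nat @x2 @x3)) => @Decidable (@Eq.{1} @Int (@Int.ofNat @x2) (@Int.ofNat @x3))) @(fun (x4 : @Not (@Eq.{1} @Nat @x2 @x3)) => @Decidable.isFalse (@Eq.{1} @Int (@Int.ofNat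 @x2) (@Int.ofNat @x3)) (@Int.decEq._proof_2 @x2 @x3 @x4)) @(fun (x4 : @Eq.{1} @Nat @x2 @x3) => @Decidable.isTrue (@Eq.{1} @Int (@Int.ofNat @x2) (@Int.ofNat @x3)) (@Int.decEq._proof_1 @x2 @x3 @x4)) (@Cfsg.Agent.KO9f1a8ff.k1 @x2 @x3)) @(fun (x3 : @Nat) => @Decidable.isFalse (@Eq.{1} @Int (@Int.ofNat @x2) (@Int.negSucc @x3)) (@Int.decEq._proof_3 @x2 @x3)) @x1) @(fun (x2 : @Nat) => @Int.rec.{1} @(fun (x3 : @Int) => @Decidable (@Eq.{1} @Int (@Int.negSucc @x2) @x3)) @(fun (x3 : @Nat) => @Decidable.isFalse (@Eq.{1} @Int (@Int.negSucc @x2) (@Int.ofNat @x3)) (@Int.decEq._proof_4 @x2 @x3)) @(fun (x3 : @Nat) => @Decidable.rec.{1} (@Eq.{1} @Nat @x2 @x3) @(fun (x4 : @Decidable (@Eq.{1} @Nat @x2 @x3)) => @Decidable (@Eq.{1} @Int (@Int.negSucc @x2) (@Int.negSucc @x3))) @(fun (x4 : @Not (@Eq.{1} @Nat @x2 @x3)) => @Decidable.isFalse (@Eq.{1} @Int (@Int.negSucc @x2) (@Int.negSucc @x3)) (@Int.decEq._proof_6 @x2 @x3 @x4)) @(fun (x4 :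 @Eq.{1} @Nat @x2 @x3) => @Decidable.isTrue (@Eq.{1} @Int (@Int.negSucc @x2) (@Int.negSucc @x3)) (@Int.decEq._proof_5 @x2 @x3 @x4)) (@Cfsg.Agent.KO9f1a8ff.k1 @x2 @x3)) @x1) @x0)
private theorem _root_.Cfsg.Agent.KO9f1a8ff.e27 : @Int.decEq = @_root_.Cfsg.Agent.KO9f1a8ff.k27 := by delta _root_.Cfsg.Agent.KO9f1a8ff.k27; rewrite [← Cfsg.Agent.KO9f1a8ff.e1]; rfl'
private noncomputable def _root_.Cfsg.Agent.KO9f1a8ff.k28 : (by first | exact type_of% @Cfsg.Agent.R2.SL2.okE6 | exact Unit : Sort _) := by first | (refine @Subtype.val _ (fun g => @Cfsg.Agent.R2.SL2.okE6 = @g) (@Subtype.mk _ _ (@(fun (x0 : @Prod.{0, 0} @Int @Int) => @Bool.rec.{1} @(fun (x1 : @Bool) => @Bool) @Bool.false (@Bool.rec.{1} @(fun (x1 : @Bool) => @Bool) (@Decidable.rec.{1} (@Eq.{1} @Int (@Prod.snd.{0, 0} @Int @Int @x0) (@OfNat.ofNat.{0} @Int (nat_lit 9) (@instOfNat (nat_lit 9)))) @(fun (x1 : @Decidable (@Eq.{1} @Int (@Prod.snd.{0, 0} @Int @Int @x0) (@OfNat.ofNat.{0}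 @Int (nat_lit 9) (@instOfNat (nat_lit 9))))) => @Bool) @(fun (x1 : @Not (@Eq.{1} @Int (@Prod.snd.{0, 0} @Int @Int @x0) (@OfNat.ofNat.{0} @Int (nat_lit 9) (@instOfNat (nat_lit 9))))) => @Bool.false) @(fun (x1 : @Eq.{1} @Int (@Prod.snd.{0, 0} @Int @Int @x0) (@OfNat.ofNat.{0} @Int (nat_lit 9) (@instOfNat (nat_lit 9)))) => @Bool.true) (@Cfsg.Agent.KO9f1a8ff.k27 (@Prod.snd.{0, 0} @Int @Int @x0) (@Int.ofNat (nat_lit 9)))) @Bool.true (@Decidable.rec.{1} (@Eq.{1} @Int (@Prod.snd.{0, 0} @Int @Int @x0) (@OfNat.ofNat.{0} @Int (nat_lit 0) (@instOfNat (nat_lit 0)))) @(fun (x1 : @Decidable (@Eq.{1} @Int (@Prod.snd.{0, 0} @Int @Int @x0) (@OfNat.ofNat.{0} @Int (nat_lit 0) (@instOfNat (nat_lit 0))))) => @Bool) @(fun (x1 : @Not (@Eq.{1} @Int (@Prod.snd.{0, 0} @Int @Int @x0) (@OfNat.ofNat.{0} @Int (nat_lit 0) (@instOfNat (nat_lit 0))))) => @Bool.false) @(fun (x1 : @Eq.{1} @Int (@Prod.snd.{0, 0} @Int @Int @x0) (@OfNat.ofNat.{0} @Int (nat_lit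 0) (@instOfNat (nat_lit 0)))) => @Bool.true) (@Cfsg.Agent.KO9f1a8ff.k27 (@Prod.snd.{0, 0} @Int @Int @x0) (@Int.ofNat (nat_lit 0))))) (@Bool.rec.{1} @(fun (x1 : @Bool) => @Bool) (@Decidable.rec.{1} (@Eq.{1} @Int (@Prod.fst.{0, 0} @Int @Int @x0) (@Neg.neg.{0} @Int @Int.instNegInt (@OfNat.ofNat.{0} @Int (nat_lit 5) (@instOfNat (nat_lit 5))))) @(fun (x1 : @Decidable (@Eq.{1} @Int (@Prod.fst.{0, 0} @Int @Int @x0) (@Neg.neg.{0} @Int @Int.instNegInt (@OfNat.ofNat.{0} @Int (nat_lit 5) (@instOfNat (nat_lit 5)))))) => @Bool) @(fun (x1 : @Not (@Eq.{1} @Int (@Prod.fst.{0, 0} @Int @Int @x0) (@Neg.neg.{0} @Int @Int.instNegInt (@OfNat.ofNat.{0} @Int (nat_lit 5) (@instOfNat (nat_lit 5)))))) => @Bool.false) @(fun (x1 : @Eq.{1} @Int (@Prod.fst.{0, 0} @Int @Int @x0) (@Neg.neg.{0} @Int @Int.instNegInt (@OfNat.ofNat.{0} @Int (nat_lit 5) (@instOfNat (nat_lit 5))))) => @Bool.true) (@Cfsg.Agent.KO9f1a8ff.k27 (@Prod.fst.{0, 0} @Int @Int @x0)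 (@Nat.rec.{1} @(fun (x1 : @Nat) => @Int) (@Int.ofNat (nat_lit 0)) @(fun (x1 : @Nat) (x2 : @Int) => @Int.negSucc @x1) (nat_lit 5)))) @Bool.true (@Decidable.rec.{1} (@Eq.{1} @Int (@Prod.fst.{0, 0} @Int @Int @x0) (@OfNat.ofNat.{0} @Int (nat_lit 3) (@instOfNat (nat_lit 3)))) @(fun (x1 : @Decidable (@Eq.{1} @Int (@Prod.fst.{0, 0} @Int @Int @x0) (@OfNat.ofNat.{0} @Int (nat_lit 3) (@instOfNat (nat_lit 3))))) => @Bool) @(fun (x1 : @Not (@Eq.{1} @Int (@Prod.fst.{0, 0} @Int @Int @x0) (@OfNat.ofNat.{0} @Int (nat_lit 3) (@instOfNat (nat_lit 3))))) => @Bool.false) @(fun (x1 : @Eq.{1} @Int (@Prod.fst.{0, 0} @Int @Int @x0) (@OfNat.ofNat.{0} @Int (nat_lit 3) (@instOfNat (nat_lit 3)))) => @Bool.true) (@Cfsg.Agent.KO9f1a8ff.k27 (@Prod.fst.{0, 0} @Int @Int @x0) (@Int.ofNat (nat_lit 3))))))) ?_); rewrite [← Cfsg.Agent.KO9f1a8ff.e27]; rfl') | exact @Cfsg.Agent.R2.SL2.okE6 | exact ()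
private theorem _root_.Cfsg.Agent.KO9f1a8ff.e28 : (by first | exact @Cfsg.Agent.R2.SL2.okE6 = @_root_.Cfsg.Agent.KO9f1a8ff.k28 | exact True : Prop) := by first | (delta _root_.Cfsg.Agent.KO9f1a8ff.k28; exact @Subtype.property _ (fun g => @Cfsg.Agent.R2.SL2.okE6 = @g) _) | rfl | trivial

theorem pats_E6 : pats okE6 60 (tys val23 evenL 26 4 27) 27 0 = listE6 := by (first | (refine of_decide_eq_true ?_; rewrite [Cfsg.Agent.KO9f1a8ff.e0, Cfsg.Agent.KO9f1a8ff.e24.{0}, Cfsg.Agent.KO9f1a8ff.e2, Cfsg.Agent.KO9f1a8ff.e26.{0, 0}, Cfsg.Agent.KO9f1a8ff.e28, Cfsg.Agent.KO9f1a8ff.e14.{0}, Cfsg.Agent.KO9f1a8ff.e19, Cfsg.Agent.KO9f1a8ff.e21]; decide +kernel) | decide +kernel)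

/-- admissible traces, E6_3 -/
def okE63 (t : ℤ × ℤ) : Bool := t.1 == 3 || t.1 == -5

/-- the composition patterns, E6_3, `p = 3` -/
def listE6_3 : List (List (List ℕ)) :=
   [[[], [], [], [], [], [], [], [], [], [2], [2], [2], [2], [2], [2]],
    [[], [], [], [], [], [], [], [], [1, 1], [2], [2], [2], [2], [2]],
    [[], [], [], [], [], [], [], [1, 1], [1, 1], [2], [2], [2], [2]],
    [[], [], [], [], [], [], [1, 1], [1, 1], [1, 1], [2], [2], [2]],
    [[], [], [], [], [], [], [1, 1, 2], [2], [2], [2]],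
    [[], [], [], [], [], [], [2], [2], [2], [2], [2, 2]],
    [[], [], [], [], [], [1, 1], [1, 1], [1, 1], [1, 1], [2], [2]],
    [[], [], [], [], [], [1, 1], [1, 1, 2], [2], [2]],
    [[], [], [], [], [], [1, 1], [2], [2], [2], [2, 2]],
    [[], [], [], [], [], [1, 1, 1, 1], [2], [2]],
    [[], [], [], [], [1, 1], [1, 1], [1, 1], [1, 1], [1, 1], [2]],
    [[], [], [], [], [1, 1], [1, 1], [1, 1, 2], [2]],
    [[], [], [], [], [1, 1], [1, 1], [2], [2], [2, 2]],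
    [[], [], [], [], [1, 1], [1, 1, 1, 1], [2]],
    [[], [], [], [1, 1], [1, 1], [1, 1], [1, 1], [1, 1], [1, 1]],
    [[], [], [], [1, 1], [1, 1], [1, 1], [1, 1, 2]],
    [[], [], [], [1, 1], [1, 1], [1, 1], [2], [2, 2]],
    [[], [], [], [1, 1], [1, 1], [1, 1, 1, 1]],
    [[], [], [], [1, 1, 2], [1, 1, 2]],
    [[], [], [], [1, 1, 2], [2], [2, 2]],
    [[], [], [], [2], [2], [2], [2], [2], [2], [2], [2]],
    [[], [], [], [2], [2], [2, 2], [2, 2]],
    [[], [], [1, 1], [1, 1], [1, 1], [1, 1], [2, 2]],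
    [[], [], [1, 1], [1, 1, 2], [2, 2]],
    [[], [], [1, 1], [2], [2], [2], [2], [2], [2], [2]],
    [[], [], [1, 1], [2], [2, 2], [2, 2]],
    [[], [], [1, 1, 1, 1], [2, 2]],
    [[], [1, 1], [1, 1], [2], [2], [2], [2], [2], [2]],
    [[], [1, 1], [1, 1], [2, 2], [2, 2]],
    [[1, 1], [1, 1], [1, 1], [2], [2], [2], [2], [2]],
    [[1, 1, 2], [2], [2], [2], [2], [2]],
    [[2], [2], [2], [2], [2], [2], [2, 2]],
    [[2, 2], [2, 2], [2, 2]]]

theorem tys_E6_3 : (tys val23 evenL 2 4 27).length = 7 := by decide +kernel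

private noncomputable def _root_.Cfsg.Agent.KO9f1a8ff.k29 : (by first | exact type_of% @Cfsg.Agent.R2.SL2.okE63 | exact Unit : Sort _) := by first | (refine @Subtype.val _ (fun g => @Cfsg.Agent.R2.SL2.okE63 = @g) (@Subtype.mk _ _ (@(fun (x0 : @Prod.{0, 0} @Int @Int) => @Bool.rec.{1} @(fun (x1 : @Bool) => @Bool) (@Decidable.rec.{1} (@Eq.{1} @Int (@Prod.fst.{0, 0} @Int @Int @x0) (@Neg.neg.{0} @Int @Int.instNegInt (@OfNat.ofNat.{0} @Int (nat_lit 5) (@instOfNat (nat_lit 5))))) @(fun (x1 : @Decidable (@Eq.{1} @Int (@Prod.fst.{0, 0} @Int @Int @x0) (@Neg.neg.{0} @Int @Int.instNegInt (@OfNat.ofNat.{0} @Int (nat_lit 5) (@instOfNat (nat_lit 5)))))) => @Bool) @(fun (x1 : @Not (@Eq.{1} @Int (@Prod.fst.{0, 0} @Int @Int @x0) (@Neg.neg.{0} @Int @Int.instNegInt (@OfNat.ofNat.{0} @Int (nat_lit 5) (@instOfNat (nat_lit 5)))))) => @Bool.false) @(fun (x1 : @Eq.{1} @Int (@Prod.fst.{0, 0} @Int @Int @x0) (@Neg.neg.{0} @Int @Int.instNegInt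 (@OfNat.ofNat.{0} @Int (nat_lit 5) (@instOfNat (nat_lit 5))))) => @Bool.true) (@Cfsg.Agent.KO9f1a8ff.k27 (@Prod.fst.{0, 0} @Int @Int @x0) (@Nat.rec.{1} @(fun (x1 : @Nat) => @Int) (@Int.ofNat (nat_lit 0)) @(fun (x1 : @Nat) (x2 : @Int) => @Int.negSucc @x1) (nat_lit 5)))) @Bool.true (@Decidable.rec.{1} (@Eq.{1} @Int (@Prod.fst.{0, 0} @Int @Int @x0) (@OfNat.ofNat.{0} @Int (nat_lit 3) (@instOfNat (nat_lit 3)))) @(fun (x1 : @Decidable (@Eq.{1} @Int (@Prod.fst.{0, 0} @Int @Int @x0) (@OfNat.ofNat.{0} @Int (nat_lit 3) (@instOfNat (nat_lit 3))))) => @Bool) @(fun (x1 : @Not (@Eq.{1} @Int (@Prod.fst.{0, 0} @Int @Int @x0) (@OfNat.ofNat.{0} @Int (nat_lit 3) (@instOfNat (nat_lit 3))))) => @Bool.false) @(fun (x1 : @Eq.{1} @Int (@Prod.fst.{0, 0} @Int @Int @x0) (@OfNat.ofNat.{0} @Int (nat_lit 3) (@instOfNat (nat_lit 3)))) => @Bool.true) (@Cfsg.Agent.KO9f1a8ff.k27 (@Prod.fst.{0, 0} @Int @Int @x0) (@Int.ofNat (nat_lit 3)))))) ?_); rewrite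 [← Cfsg.Agent.KO9f1a8ff.e27]; rfl') | exact @Cfsg.Agent.R2.SL2.okE63 | exact ()
private theorem _root_.Cfsg.Agent.KO9f1a8ff.e29 : (by first | exact @Cfsg.Agent.R2.SL2.okE63 = @_root_.Cfsg.Agent.KO9f1a8ff.k29 | exact True : Prop) := by first | (delta _root_.Cfsg.Agent.KO9f1a8ff.k29; exact @Subtype.property _ (fun g => @Cfsg.Agent.R2.SL2.okE63 = @g) _) | rfl | trivial

theorem pats_E6_3 : pats okE63 35 (tys val23 evenL 2 4 27) 27 0 = listE6_3 := by (first | (refine of_decide_eq_true ?_; rewrite [Cfsg.Agent.KO9f1a8ff.e0, Cfsg.Agent.KO9f1a8ff.e24.{0}, Cfsg.Agent.KO9f1a8ff.e2, Cfsg.Agent.KO9f1a8ff.e26.{0, 0}, Cfsg.Agent.KO9f1a8ff.e29, Cfsg.Agent.KO9f1a8ff.e14.{0}, Cfsg.Agent.KO9f1a8ff.e19, Cfsg.Agent.KO9f1a8ff.e21]; decide +kernel) | decide +kernel)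

/-- admissible traces, E6_2 -/
def okE62 (t : ℤ × ℤ) : Bool := t.2 == 0 || t.2 == 9

/-- the composition patterns, E6_2, `p = 2` -/
def listE6_2 : List (List (List ℕ)) :=
   [[[], [], [], [], [], [], [], [], [], [], [], [], [], [], [], [1], [1], [1], [1], [1], [1]],
    [[], [], [], [], [], [], [], [], [], [], [], [], [], [1], [1], [1], [1], [1], [1, 1]],
    [[], [], [], [], [], [], [], [], [], [], [], [], [], [1], [1], [1], [1, 1, 1]],
    [[], [], [], [], [], [], [], [], [], [], [], [1], [1], [1], [1], [1, 1], [1, 1]],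
    [[], [], [], [], [], [], [], [], [], [], [], [1], [1], [1, 1], [1, 1, 1]],
    [[], [], [], [], [], [], [], [], [], [], [], [1, 1, 1], [1, 1, 1]],
    [[], [], [], [], [], [], [], [], [], [1], [1], [1], [1], [1], [1], [1], [1], [1]],
    [[], [], [], [], [], [], [], [], [], [1], [1], [1], [1, 1], [1, 1], [1, 1]],
    [[], [], [], [], [], [], [], [], [], [1], [1, 1], [1, 1], [1, 1, 1]],
    [[], [], [], [], [], [], [], [], [], [1], [1, 1, 1, 1]],
    [[], [], [], [], [], [], [], [1], [1], [1], [1], [1], [1], [1], [1], [1, 1]],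
    [[], [], [], [], [], [], [], [1], [1], [1], [1], [1], [1], [1, 1, 1]],
    [[], [], [], [], [], [], [], [1], [1], [1, 1], [1, 1], [1, 1], [1, 1]],
    [[], [], [], [], [], [], [], [1, 1], [1, 1], [1, 1], [1, 1, 1]],
    [[], [], [], [], [], [], [], [1, 1], [1, 1, 1, 1]],
    [[], [], [], [], [], [1], [1], [1], [1], [1], [1], [1], [1, 1], [1, 1]],
    [[], [], [], [], [], [1], [1], [1], [1], [1], [1, 1], [1, 1, 1]],
    [[], [], [], [], [], [1], [1], [1], [1, 1, 1], [1, 1, 1]],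
    [[], [], [], [], [], [1], [1, 1], [1, 1], [1, 1], [1, 1], [1, 1]],
    [[], [], [], [1], [1], [1], [1], [1], [1], [1, 1], [1, 1], [1, 1]],
    [[], [], [], [1], [1], [1], [1], [1, 1], [1, 1], [1, 1, 1]],
    [[], [], [], [1], [1], [1], [1], [1, 1, 1, 1]],
    [[], [], [], [1], [1], [1, 1], [1, 1, 1], [1, 1, 1]],
    [[], [], [], [1, 1], [1, 1], [1, 1], [1, 1], [1, 1], [1, 1]],
    [[], [], [], [1, 1, 1], [1, 1, 1], [1, 1, 1]],
    [[], [1], [1], [1], [1], [1], [1, 1], [1, 1], [1, 1], [1, 1]],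
    [[], [1], [1], [1], [1, 1], [1, 1], [1, 1], [1, 1, 1]],
    [[], [1], [1], [1], [1, 1], [1, 1, 1, 1]],
    [[], [1], [1, 1], [1, 1], [1, 1, 1], [1, 1, 1]],
    [[], [1], [1, 1, 1], [1, 1, 1, 1]]]

theorem tys_E6_2 : (tys val23 (fun _ => true) 1 4 27).length = 5 := by decide +kernel

private noncomputable def _root_.Cfsg.Agent.KO9f1a8ff.k30 : (by first | exact type_of% @Cfsg.Agent.R2.SL2.okE62 | exact Unit : Sort _) := by first | (refine @Subtype.val _ (fun g => @Cfsg.Agent.R2.SL2.okE62 = @g) (@Subtype.mk _ _ (@(fun (x0 : @Prod.{0, 0} @Int @Int) => @Bool.rec.{1} @(fun (x1 : @Bool) => @Bool) (@Decidable.rec.{1} (@Eq.{1} @Int (@Prod.snd.{0, 0} @Int @Int @x0) (@OfNat.ofNat.{0} @Int (nat_lit 9) (@instOfNat (nat_lit 9)))) @(fun (x1 : @Decidable (@Eq.{1} @Int (@Prod.snd.{0, 0} @Int @Int @x0) (@OfNat.ofNat.{0} @Int (nat_lit 9) (@instOfNat (nat_lit 9))))) => @Bool) @(fun (x1 : @Not (@Eq.{1} @Int (@Prod.snd.{0, 0} @Int @Int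 @x0) (@OfNat.ofNat.{0} @Int (nat_lit 9) (@instOfNat (nat_lit 9))))) => @Bool.false) @(fun (x1 : @Eq.{1} @Int (@Prod.snd.{0, 0} @Int @Int @x0) (@OfNat.ofNat.{0} @Int (nat_lit 9) (@instOfNat (nat_lit 9)))) => @Bool.true) (@Cfsg.Agent.KO9f1a8ff.k27 (@Prod.snd.{0, 0} @Int @Int @x0) (@Int.ofNat (nat_lit 9)))) @Bool.true (@Decidable.rec.{1} (@Eq.{1} @Int (@Prod.snd.{0, 0} @Int @Int @x0) (@OfNat.ofNat.{0} @Int (nat_lit 0) (@instOfNat (nat_lit 0)))) @(fun (x1 : @Decidable (@Eq.{1} @Int (@Prod.snd.{0, 0} @Int @Int @x0) (@OfNat.ofNat.{0} @Int (nat_lit 0) (@instOfNat (nat_lit 0))))) => @Bool) @(fun (x1 : @Not (@Eq.{1} @Int (@Prod.snd.{0, 0} @Int @Int @x0) (@OfNat.ofNat.{0} @Int (nat_lit 0) (@instOfNat (nat_lit 0))))) => @Bool.false) @(fun (x1 : @Eq.{1} @Int (@Prod.snd.{0, 0} @Int @Int @x0) (@OfNat.ofNat.{0} @Int (nat_lit 0) (@instOfNat (nat_lit 0)))) => @Bool.true) (@Cfsg.Agent.KO9f1a8ff.k27 (@Prod.snd.{0, 0} @Int @Int @x0) (@Int.ofNat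 (nat_lit 0)))))) ?_); rewrite [← Cfsg.Agent.KO9f1a8ff.e27]; rfl') | exact @Cfsg.Agent.R2.SL2.okE62 | exact ()
private theorem _root_.Cfsg.Agent.KO9f1a8ff.e30 : (by first | exact @Cfsg.Agent.R2.SL2.okE62 = @_root_.Cfsg.Agent.KO9f1a8ff.k30 | exact True : Prop) := by first | (delta _root_.Cfsg.Agent.KO9f1a8ff.k30; exact @Subtype.property _ (fun g => @Cfsg.Agent.R2.SL2.okE62 = @g) _) | rfl | trivial

theorem pats_E6_2 : pats okE62 33 (tys val23 (fun _ => true) 1 4 27) 27 0 = listE6_2 := by (first | (refine of_decide_eq_true ?_; rewrite [Cfsg.Agent.KO9f1a8ff.e0, Cfsg.Agent.KO9f1a8ff.e24.{0}, Cfsg.Agent.KO9f1a8ff.e2, Cfsg.Agent.KO9f1a8ff.e26.{0, 0}, Cfsg.Agent.KO9f1a8ff.e30, Cfsg.Agent.KO9f1a8ff.e14.{0}, Cfsg.Agent.KO9f1a8ff.e19]; decide +kernel) | decide +kernel)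

/-- admissible traces, F4 -/
def okF4 (t : ℤ × ℤ) : Bool := (t.1 == 2 || t.1 == -6) && (t.2 == -1 || t.2 == 8)

/-- the composition patterns, F4, `p ≥ 5` -/
def listF4 : List (List (List ℕ)) :=
   [[[], [], [], [], [], [], [], [], [2], [2], [2], [2], [2], [2]],
    [[], [], [], [], [], [], [], [1, 1], [2], [2], [2], [2], [2]],
    [[], [], [], [], [], [], [], [2], [2], [2], [2], [6]],
    [[], [], [], [], [], [], [1, 1], [1, 1], [2], [2], [2], [2]],
    [[], [], [], [], [], [], [1, 1], [2], [2], [2], [6]],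
    [[], [], [], [], [], [], [2], [2], [6], [6]],
    [[], [], [], [], [], [1, 1], [1, 1], [1, 1], [2], [2], [2]],
    [[], [], [], [], [], [1, 1], [1, 1], [2], [2], [6]],
    [[], [], [], [], [], [1, 1], [2], [6], [6]],
    [[], [], [], [], [], [6], [6], [6]],
    [[], [], [], [], [1, 1], [1, 1], [1, 1], [1, 1], [2], [2]],
    [[], [], [], [], [1, 1], [1, 1], [1, 1], [2], [6]],
    [[], [], [], [], [1, 1], [1, 1], [6], [6]],
    [[], [], [], [1, 1], [1, 1], [1, 1], [1, 1], [1, 1], [2]],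
    [[], [], [], [1, 1], [1, 1], [1, 1], [1, 1], [6]],
    [[], [], [1, 1], [1, 1], [1, 1], [1, 1], [1, 1], [1, 1]],
    [[], [], [1, 3], [1, 3], [1, 3]],
    [[], [], [1, 3], [1, 3], [2], [4]],
    [[], [], [1, 3], [2], [2], [4], [4]],
    [[], [], [1, 3], [4], [10]],
    [[], [], [2], [2], [2], [4], [4], [4]],
    [[], [], [2], [4], [4], [10]],
    [[], [1, 1], [1, 3], [1, 3], [4]],
    [[], [1, 1], [1, 3], [2], [4], [4]],
    [[], [1, 1], [2], [2], [4], [4], [4]],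
    [[], [1, 1], [4], [4], [10]],
    [[], [1, 1, 2], [1, 3], [4]],
    [[], [1, 1, 2], [2], [4], [4]],
    [[], [1, 1, 4], [4]],
    [[], [1, 3], [1, 3], [2, 2]],
    [[], [1, 3], [1, 3], [8]],
    [[], [1, 3], [1, 5], [4]],
    [[], [1, 3], [2], [2, 2], [4]],
    [[], [1, 3], [2], [4], [8]],
    [[], [1, 3], [4], [4], [6]],
    [[], [1, 3], [16]],
    [[], [1, 5], [2], [4], [4]],
    [[], [1, 9], [4]],
    [[], [2], [2], [2, 2], [4], [4]],
    [[], [2], [2], [4], [4], [8]],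
    [[], [2], [4], [4], [4], [6]],
    [[], [2], [4], [16]],
    [[], [2, 2], [4], [10]],
    [[], [2, 4], [4], [4]],
    [[], [4], [4], [14]],
    [[], [4], [8], [10]],
    [[1, 1], [1, 1], [1, 3], [4], [4]],
    [[1, 1], [1, 1], [2], [4], [4], [4]],
    [[1, 1], [1, 1, 2], [4], [4]],
    [[1, 1], [1, 3], [2, 2], [4]],
    [[1, 1], [1, 3], [4], [8]],
    [[1, 1], [1, 5], [4], [4]],
    [[1, 1], [2], [2, 2], [4], [4]],
    [[1, 1], [2], [4], [4], [8]],
    [[1, 1], [4], [4], [4], [6]],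
    [[1, 1], [4], [16]],
    [[1, 1, 1, 1], [4], [4]],
    [[1, 1, 2], [2, 2], [4]],
    [[1, 1, 2], [4], [8]],
    [[1, 3], [2], [2], [2], [2], [2], [2]],
    [[1, 3], [2, 2], [2, 2]],
    [[1, 3], [2, 2], [8]],
    [[1, 3], [4], [12]],
    [[1, 3], [8], [8]],
    [[1, 5], [2, 2], [4]],
    [[1, 5], [4], [8]],
    [[1, 7], [4], [4]],
    [[2], [2], [2], [2], [2], [2], [2], [4]],
    [[2], [2], [2], [2], [2], [10]],
    [[2], [2, 2], [2, 2], [4]],
    [[2], [2, 2], [4], [8]],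
    [[2], [4], [4], [12]],
    [[2], [4], [8], [8]],
    [[2, 2], [4], [4], [6]],
    [[2, 2], [16]],
    [[2, 6], [4]],
    [[3, 3], [4], [4]],
    [[4], [4], [6], [8]],
    [[4], [20]],
    [[8], [16]]]

theorem tys_F4 : (tys val23 evenL 25 4 26).length = 29 := by (first | (refine of_decide_eq_true ?_; rewrite [Cfsg.Agent.KO9f1a8ff.e0, Cfsg.Agent.KO9f1a8ff.e2, Cfsg.Agent.KO9f1a8ff.e4.{0}, Cfsg.Agent.KO9f1a8ff.e14.{0}, Cfsg.Agent.KO9f1a8ff.e19, Cfsg.Agent.KO9f1a8ff.e21]; decide +kernel) | decide +kernel)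

private noncomputable def _root_.Cfsg.Agent.KO9f1a8ff.k31 : (by first | exact type_of% @Cfsg.Agent.R2.SL2.okF4 | exact Unit : Sort _) := by first | (refine @Subtype.val _ (fun g => @Cfsg.Agent.R2.SL2.okF4 = @g) (@Subtype.mk _ _ (@(fun (x0 : @Prod.{0, 0} @Int @Int) => @Bool.rec.{1} @(fun (x1 : @Bool) => @Bool) @Bool.false (@Bool.rec.{1} @(fun (x1 : @Bool) => @Bool) (@Decidable.rec.{1} (@Eq.{1} @Int (@Prod.snd.{0, 0} @Int @Int @x0) (@OfNat.ofNat.{0} @Int (nat_lit 8) (@instOfNat (nat_lit 8)))) @(fun (x1 : @Decidable (@Eq.{1} @Int (@Prod.snd.{0, 0} @Int @Int @x0) (@OfNat.ofNat.{0} @Int (nat_lit 8) (@instOfNat (nat_lit 8))))) => @Bool) @(fun (x1 : @Not (@Eq.{1} @Int (@Prod.snd.{0, 0} @Int @Int @x0) (@OfNat.ofNat.{0} @Int (nat_lit 8) (@instOfNat (nat_lit 8))))) => @Bool.false) @(fun (x1 : @Eq.{1} @Int (@Prod.snd.{0, 0} @Int @Int @x0) (@OfNat.ofNat.{0} @Int (nat_lit 8) (@instOfNat (nat_lit 8)))) => @Bool.true) (@Cfsg.Agent.KO9f1a8ff.k27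 (@Prod.snd.{0, 0} @Int @Int @x0) (@Int.ofNat (nat_lit 8)))) @Bool.true (@Decidable.rec.{1} (@Eq.{1} @Int (@Prod.snd.{0, 0} @Int @Int @x0) (@Neg.neg.{0} @Int @Int.instNegInt (@OfNat.ofNat.{0} @Int (nat_lit 1) (@instOfNat (nat_lit 1))))) @(fun (x1 : @Decidable (@Eq.{1} @Int (@Prod.snd.{0, 0} @Int @Int @x0) (@Neg.neg.{0} @Int @Int.instNegInt (@OfNat.ofNat.{0} @Int (nat_lit 1) (@instOfNat (nat_lit 1)))))) => @Bool) @(fun (x1 : @Not (@Eq.{1} @Int (@Prod.snd.{0, 0} @Int @Int @x0) (@Neg.neg.{0} @Int @Int.instNegInt (@OfNat.ofNat.{0} @Int (nat_lit 1) (@instOfNat (nat_lit 1)))))) => @Bool.false) @(fun (x1 : @Eq.{1} @Int (@Prod.snd.{0, 0} @Int @Int @x0) (@Neg.neg.{0} @Int @Int.instNegInt (@OfNat.ofNat.{0} @Int (nat_lit 1) (@instOfNat (nat_lit 1))))) => @Bool.true) (@Cfsg.Agent.KO9f1a8ff.k27 (@Prod.snd.{0, 0} @Int @Int @x0) (@Nat.rec.{1} @(fun (x1 : @Nat) => @Int) (@Int.ofNat (nat_lit 0)) @(fun (x1 : @Nat) (x2 : @Int) => @Int.negSucc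 @x1) (nat_lit 1))))) (@Bool.rec.{1} @(fun (x1 : @Bool) => @Bool) (@Decidable.rec.{1} (@Eq.{1} @Int (@Prod.fst.{0, 0} @Int @Int @x0) (@Neg.neg.{0} @Int @Int.instNegInt (@OfNat.ofNat.{0} @Int (nat_lit 6) (@instOfNat (nat_lit 6))))) @(fun (x1 : @Decidable (@Eq.{1} @Int (@Prod.fst.{0, 0} @Int @Int @x0) (@Neg.neg.{0} @Int @Int.instNegInt (@OfNat.ofNat.{0} @Int (nat_lit 6) (@instOfNat (nat_lit 6)))))) => @Bool) @(fun (x1 : @Not (@Eq.{1} @Int (@Prod.fst.{0, 0} @Int @Int @x0) (@Neg.neg.{0} @Int @Int.instNegInt (@OfNat.ofNat.{0} @Int (nat_lit 6) (@instOfNat (nat_lit 6)))))) => @Bool.false) @(fun (x1 : @Eq.{1} @Int (@Prod.fst.{0, 0} @Int @Int @x0) (@Neg.neg.{0} @Int @Int.instNegInt (@OfNat.ofNat.{0} @Int (nat_lit 6) (@instOfNat (nat_lit 6))))) => @Bool.true) (@Cfsg.Agent.KO9f1a8ff.k27 (@Prod.fst.{0, 0} @Int @Int @x0) (@Nat.rec.{1} @(fun (x1 : @Nat) => @Int) (@Int.ofNat (nat_lit 0)) @(fun (x1 : @Nat) (x2 : @Int) => @Int.negSucc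 @x1) (nat_lit 6)))) @Bool.true (@Decidable.rec.{1} (@Eq.{1} @Int (@Prod.fst.{0, 0} @Int @Int @x0) (@OfNat.ofNat.{0} @Int (nat_lit 2) (@instOfNat (nat_lit 2)))) @(fun (x1 : @Decidable (@Eq.{1} @Int (@Prod.fst.{0, 0} @Int @Int @x0) (@OfNat.ofNat.{0} @Int (nat_lit 2) (@instOfNat (nat_lit 2))))) => @Bool) @(fun (x1 : @Not (@Eq.{1} @Int (@Prod.fst.{0, 0} @Int @Int @x0) (@OfNat.ofNat.{0} @Int (nat_lit 2) (@instOfNat (nat_lit 2))))) => @Bool.false) @(fun (x1 : @Eq.{1} @Int (@Prod.fst.{0, 0} @Int @Int @x0) (@OfNat.ofNat.{0} @Int (nat_lit 2) (@instOfNat (nat_lit 2)))) => @Bool.true) (@Cfsg.Agent.KO9f1a8ff.k27 (@Prod.fst.{0, 0} @Int @Int @x0) (@Int.ofNat (nat_lit 2))))))) ?_); rewrite [← Cfsg.Agent.KO9f1a8ff.e27]; rfl') | exact @Cfsg.Agent.R2.SL2.okF4 | exact ()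
private theorem _root_.Cfsg.Agent.KO9f1a8ff.e31 : (by first | exact @Cfsg.Agent.R2.SL2.okF4 = @_root_.Cfsg.Agent.KO9f1a8ff.k31 | exact True : Prop) := by first | (delta _root_.Cfsg.Agent.KO9f1a8ff.k31; exact @Subtype.property _ (fun g => @Cfsg.Agent.R2.SL2.okF4 = @g) _) | rfl | trivial

theorem pats_F4 : pats okF4 56 (tys val23 evenL 25 4 26) 26 0 = listF4 := by (first | (refine of_decide_eq_true ?_; rewrite [Cfsg.Agent.KO9f1a8ff.e0, Cfsg.Agent.KO9f1a8ff.e24.{0}, Cfsg.Agent.KO9f1a8ff.e2, Cfsg.Agent.KO9f1a8ff.e26.{0, 0}, Cfsg.Agent.KO9f1a8ff.e31, Cfsg.Agent.KO9f1a8ff.e14.{0}, Cfsg.Agent.KO9f1a8ff.e19, Cfsg.Agent.KO9f1a8ff.e21]; decide +kernel) | decide +kernel)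

/-- admissible traces, F4_3 -/
def okF43 (t : ℤ × ℤ) : Bool := t.1 == 2 || t.1 == -6

/-- the composition patterns, F4_3, `p = 3` -/
def listF4_3 : List (List (List ℕ)) :=
   [[[], [], [], [], [], [], [], [], [2], [2], [2], [2], [2], [2]],
    [[], [], [], [], [], [], [], [1, 1], [2], [2], [2], [2], [2]],
    [[], [], [], [], [], [], [1, 1], [1, 1], [2], [2], [2], [2]],
    [[], [], [], [], [], [1, 1], [1, 1], [1, 1], [2], [2], [2]],
    [[], [], [], [], [], [1, 1, 2], [2], [2], [2]],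
    [[], [], [], [], [], [2], [2], [2], [2], [2, 2]],
    [[], [], [], [], [1, 1], [1, 1], [1, 1], [1, 1], [2], [2]],
    [[], [], [], [], [1, 1], [1, 1, 2], [2], [2]],
    [[], [], [], [], [1, 1], [2], [2], [2], [2, 2]],
    [[], [], [], [], [1, 1, 1, 1], [2], [2]],
    [[], [], [], [1, 1], [1, 1], [1, 1], [1, 1], [1, 1], [2]],
    [[], [], [], [1, 1], [1, 1], [1, 1, 2], [2]],
    [[], [], [], [1, 1], [1, 1], [2], [2], [2, 2]],
    [[], [], [], [1, 1], [1, 1, 1, 1], [2]],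
    [[], [], [1, 1], [1, 1], [1, 1], [1, 1], [1, 1], [1, 1]],
    [[], [], [1, 1], [1, 1], [1, 1], [1, 1, 2]],
    [[], [], [1, 1], [1, 1], [1, 1], [2], [2, 2]],
    [[], [], [1, 1], [1, 1], [1, 1, 1, 1]],
    [[], [], [1, 1, 2], [1, 1, 2]],
    [[], [], [1, 1, 2], [2], [2, 2]],
    [[], [], [2], [2], [2], [2], [2], [2], [2], [2]],
    [[], [], [2], [2], [2, 2], [2, 2]],
    [[], [1, 1], [1, 1], [1, 1], [1, 1], [2, 2]],
    [[], [1, 1], [1, 1, 2], [2, 2]],
    [[], [1, 1], [2], [2], [2], [2], [2], [2], [2]],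
    [[], [1, 1], [2], [2, 2], [2, 2]],
    [[], [1, 1, 1, 1], [2, 2]],
    [[1, 1], [1, 1], [2], [2], [2], [2], [2], [2]],
    [[1, 1], [1, 1], [2, 2], [2, 2]]]

theorem tys_F4_3 : (tys val23 evenL 2 4 26).length = 6 := by decide +kernel

private noncomputable def _root_.Cfsg.Agent.KO9f1a8ff.k32 : (by first | exact type_of% @Cfsg.Agent.R2.SL2.okF43 | exact Unit : Sort _) := by first | (refine @Subtype.val _ (fun g => @Cfsg.Agent.R2.SL2.okF43 = @g) (@Subtype.mk _ _ (@(fun (x0 : @Prod.{0, 0} @Int @Int) => @Bool.rec.{1} @(fun (x1 : @Bool) => @Bool) (@Decidable.rec.{1} (@Eq.{1} @Int (@Prod.fst.{0, 0} @Int @Int @x0) (@Neg.neg.{0} @Int @Int.instNegInt (@OfNat.ofNat.{0} @Int (nat_lit 6) (@instOfNat (nat_lit 6))))) @(fun (x1 : @Decidable (@Eq.{1} @Int (@Prod.fst.{0, 0} @Int @Int @x0) (@Neg.neg.{0} @Int @Int.instNegInt (@OfNat.ofNat.{0} @Int (nat_lit 6) (@instOfNat (nat_lit 6)))))) => @Bool) @(fun (x1 : @Not (@Eq.{1} @Int (@Prod.fst.{0,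 0} @Int @Int @x0) (@Neg.neg.{0} @Int @Int.instNegInt (@OfNat.ofNat.{0} @Int (nat_lit 6) (@instOfNat (nat_lit 6)))))) => @Bool.false) @(fun (x1 : @Eq.{1} @Int (@Prod.fst.{0, 0} @Int @Int @x0) (@Neg.neg.{0} @Int @Int.instNegInt (@OfNat.ofNat.{0} @Int (nat_lit 6) (@instOfNat (nat_lit 6))))) => @Bool.true) (@Cfsg.Agent.KO9f1a8ff.k27 (@Prod.fst.{0, 0} @Int @Int @x0) (@Nat.rec.{1} @(fun (x1 : @Nat) => @Int) (@Int.ofNat (nat_lit 0)) @(fun (x1 : @Nat) (x2 : @Int) => @Int.negSucc @x1) (nat_lit 6)))) @Bool.true (@Decidable.rec.{1} (@Eq.{1} @Int (@Prod.fst.{0, 0} @Int @Int @x0) (@OfNat.ofNat.{0} @Int (nat_lit 2) (@instOfNat (nat_lit 2)))) @(fun (x1 : @Decidable (@Eq.{1} @Int (@Prod.fst.{0, 0} @Int @Int @x0) (@OfNat.ofNat.{0} @Int (nat_lit 2) (@instOfNat (nat_lit 2))))) => @Bool) @(fun (x1 : @Not (@Eq.{1} @Int (@Prod.fst.{0, 0} @Int @Int @x0) (@OfNat.ofNat.{0} @Int (nat_lit 2) (@instOfNat (nat_lit 2))))) => @Bool.false) @(fun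 (x1 : @Eq.{1} @Int (@Prod.fst.{0, 0} @Int @Int @x0) (@OfNat.ofNat.{0} @Int (nat_lit 2) (@instOfNat (nat_lit 2)))) => @Bool.true) (@Cfsg.Agent.KO9f1a8ff.k27 (@Prod.fst.{0, 0} @Int @Int @x0) (@Int.ofNat (nat_lit 2)))))) ?_); rewrite [← Cfsg.Agent.KO9f1a8ff.e27]; rfl') | exact @Cfsg.Agent.R2.SL2.okF43 | exact ()
private theorem _root_.Cfsg.Agent.KO9f1a8ff.e32 : (by first | exact @Cfsg.Agent.R2.SL2.okF43 = @_root_.Cfsg.Agent.KO9f1a8ff.k32 | exact True : Prop) := by first | (delta _root_.Cfsg.Agent.KO9f1a8ff.k32; exact @Subtype.property _ (fun g => @Cfsg.Agent.R2.SL2.okF43 = @g) _) | rfl | trivial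

theorem pats_F4_3 : pats okF43 33 (tys val23 evenL 2 4 26) 26 0 = listF4_3 := by (first | (refine of_decide_eq_true ?_; rewrite [Cfsg.Agent.KO9f1a8ff.e0, Cfsg.Agent.KO9f1a8ff.e24.{0}, Cfsg.Agent.KO9f1a8ff.e2, Cfsg.Agent.KO9f1a8ff.e26.{0, 0}, Cfsg.Agent.KO9f1a8ff.e32, Cfsg.Agent.KO9f1a8ff.e14.{0}, Cfsg.Agent.KO9f1a8ff.e19, Cfsg.Agent.KO9f1a8ff.e21]; decide +kernel) | decide +kernel)

/-- admissible traces, F4_2 -/
def okF42 (t : ℤ × ℤ) : Bool := t.2 == -1 || t.2 == 8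

/-- the composition patterns, F4_2, `p = 2` -/
def listF4_2 : List (List (List ℕ)) :=
   [[[], [], [], [], [], [], [], [], [], [], [], [], [], [], [1], [1], [1], [1], [1], [1]],
    [[], [], [], [], [], [], [], [], [], [], [], [], [1], [1], [1], [1], [1], [1, 1]],
    [[], [], [], [], [], [], [], [], [], [], [], [], [1], [1], [1], [1, 1, 1]],
    [[], [], [], [], [], [], [], [], [], [], [1], [1], [1], [1], [1, 1], [1, 1]],
    [[], [], [], [], [], [], [], [], [], [], [1], [1], [1, 1], [1, 1, 1]],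
    [[], [], [], [], [], [], [], [], [], [], [1, 1, 1], [1, 1, 1]],
    [[], [], [], [], [], [], [], [], [1], [1], [1], [1], [1], [1], [1], [1], [1]],
    [[], [], [], [], [], [], [], [], [1], [1], [1], [1, 1], [1, 1], [1, 1]],
    [[], [], [], [], [], [], [], [], [1], [1, 1], [1, 1], [1, 1, 1]],
    [[], [], [], [], [], [], [], [], [1], [1, 1, 1, 1]],
    [[], [], [], [], [], [], [1], [1], [1], [1], [1], [1], [1], [1], [1, 1]],
    [[], [], [], [], [], [], [1], [1], [1], [1], [1], [1], [1, 1, 1]],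
    [[], [], [], [], [], [], [1], [1], [1, 1], [1, 1], [1, 1], [1, 1]],
    [[], [], [], [], [], [], [1, 1], [1, 1], [1, 1], [1, 1, 1]],
    [[], [], [], [], [], [], [1, 1], [1, 1, 1, 1]],
    [[], [], [], [], [1], [1], [1], [1], [1], [1], [1], [1, 1], [1, 1]],
    [[], [], [], [], [1], [1], [1], [1], [1], [1, 1], [1, 1, 1]],
    [[], [], [], [], [1], [1], [1], [1, 1, 1], [1, 1, 1]],
    [[], [], [], [], [1], [1, 1], [1, 1], [1, 1], [1, 1], [1, 1]],
    [[], [], [1], [1], [1], [1], [1], [1], [1, 1], [1, 1], [1, 1]],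
    [[], [], [1], [1], [1], [1], [1, 1], [1, 1], [1, 1, 1]],
    [[], [], [1], [1], [1], [1], [1, 1, 1, 1]],
    [[], [], [1], [1], [1, 1], [1, 1, 1], [1, 1, 1]],
    [[], [], [1, 1], [1, 1], [1, 1], [1, 1], [1, 1], [1, 1]],
    [[], [], [1, 1, 1], [1, 1, 1], [1, 1, 1]],
    [[1], [1], [1], [1], [1], [1, 1], [1, 1], [1, 1], [1, 1]],
    [[1], [1], [1], [1, 1], [1, 1], [1, 1], [1, 1, 1]],
    [[1], [1], [1], [1, 1], [1, 1, 1, 1]],
    [[1], [1, 1], [1, 1], [1, 1, 1], [1, 1, 1]],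
    [[1], [1, 1, 1], [1, 1, 1, 1]]]

theorem tys_F4_2 : (tys val23 (fun _ => true) 1 4 26).length = 5 := by decide +kernel

private noncomputable def _root_.Cfsg.Agent.KO9f1a8ff.k33 : (by first | exact type_of% @Cfsg.Agent.R2.SL2.okF42 | exact Unit : Sort _) := by first | (refine @Subtype.val _ (fun g => @Cfsg.Agent.R2.SL2.okF42 = @g) (@Subtype.mk _ _ (@(fun (x0 : @Prod.{0, 0} @Int @Int) => @Bool.rec.{1} @(fun (x1 : @Bool) => @Bool) (@Decidable.rec.{1} (@Eq.{1} @Int (@Prod.snd.{0, 0} @Int @Int @x0) (@OfNat.ofNat.{0} @Int (nat_lit 8) (@instOfNat (nat_lit 8)))) @(fun (x1 : @Decidable (@Eq.{1} @Int (@Prod.snd.{0, 0} @Int @Int @x0) (@OfNat.ofNat.{0} @Int (nat_lit 8) (@instOfNat (nat_lit 8))))) => @Bool) @(fun (x1 : @Not (@Eq.{1} @Int (@Prod.snd.{0, 0} @Int @Int @x0) (@OfNat.ofNat.{0} @Int (nat_lit 8) (@instOfNat (nat_lit 8))))) => @Bool.false) @(fun (x1 : @Eq.{1} @Int (@Prod.snd.{0, 0} @Int @Int @x0) (@OfNat.ofNat.{0}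 @Int (nat_lit 8) (@instOfNat (nat_lit 8)))) => @Bool.true) (@Cfsg.Agent.KO9f1a8ff.k27 (@Prod.snd.{0, 0} @Int @Int @x0) (@Int.ofNat (nat_lit 8)))) @Bool.true (@Decidable.rec.{1} (@Eq.{1} @Int (@Prod.snd.{0, 0} @Int @Int @x0) (@Neg.neg.{0} @Int @Int.instNegInt (@OfNat.ofNat.{0} @Int (nat_lit 1) (@instOfNat (nat_lit 1))))) @(fun (x1 : @Decidable (@Eq.{1} @Int (@Prod.snd.{0, 0} @Int @Int @x0) (@Neg.neg.{0} @Int @Int.instNegInt (@OfNat.ofNat.{0} @Int (nat_lit 1) (@instOfNat (nat_lit 1)))))) => @Bool) @(fun (x1 : @Not (@Eq.{1} @Int (@Prod.snd.{0, 0} @Int @Int @x0) (@Neg.neg.{0} @Int @Int.instNegInt (@OfNat.ofNat.{0} @Int (nat_lit 1) (@instOfNat (nat_lit 1)))))) => @Bool.false) @(fun (x1 : @Eq.{1} @Int (@Prod.snd.{0, 0} @Int @Int @x0) (@Neg.neg.{0} @Int @Int.instNegInt (@OfNat.ofNat.{0} @Int (nat_lit 1) (@instOfNat (nat_lit 1))))) => @Bool.true) (@Cfsg.Agent.KO9f1a8ff.k27 (@Prod.snd.{0, 0} @Int @Int @x0) (@Nat.rec.{1} @(fun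 (x1 : @Nat) => @Int) (@Int.ofNat (nat_lit 0)) @(fun (x1 : @Nat) (x2 : @Int) => @Int.negSucc @x1) (nat_lit 1)))))) ?_); rewrite [← Cfsg.Agent.KO9f1a8ff.e27]; rfl') | exact @Cfsg.Agent.R2.SL2.okF42 | exact ()
private theorem _root_.Cfsg.Agent.KO9f1a8ff.e33 : (by first | exact @Cfsg.Agent.R2.SL2.okF42 = @_root_.Cfsg.Agent.KO9f1a8ff.k33 | exact True : Prop) := by first | (delta _root_.Cfsg.Agent.KO9f1a8ff.k33; exact @Subtype.property _ (fun g => @Cfsg.Agent.R2.SL2.okF42 = @g) _) | rfl | trivial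

theorem pats_F4_2 : pats okF42 32 (tys val23 (fun _ => true) 1 4 26) 26 0 = listF4_2 := by (first | (refine of_decide_eq_true ?_; rewrite [Cfsg.Agent.KO9f1a8ff.e0, Cfsg.Agent.KO9f1a8ff.e24.{0}, Cfsg.Agent.KO9f1a8ff.e2, Cfsg.Agent.KO9f1a8ff.e26.{0, 0}, Cfsg.Agent.KO9f1a8ff.e33, Cfsg.Agent.KO9f1a8ff.e14.{0}, Cfsg.Agent.KO9f1a8ff.e19]; decide +kernel) | decide +kernel)

end Cfsg.Agent.R2.SL2
end

-- part: R2/SL2/Pat
section
/-!
# Composition patterns: the statements to use (R2/SL2, helper17)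

`s` is the multiset of the (highest weights `b` of the) composition factors `V_b` of a module of `PSL2(p^a)`,
`tyl p b` the sorted list of the nonzero digits of `b`.

* `patE6`, `patE6_three`, `patE6_two`, `patF4`, `patF4_three`, `patF4_two` : from the dimension and the dimensions of the
  fixed spaces of an element of order 2 / 3;
* `tyl_one`, `tyl_two`, `tyl_three` : shape of `b` from `tyl p b`; `length_tyl_le`, `tyl_eq_nil`, `tyl_of_lt`.
-/

set_option autoImplicit false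

namespace Cfsg.Agent.R2.SL2

/-- total dimension -/
def dimS (p : ℕ) (s : Multiset ℕ) : ℕ := (s.map fun b => (Bp p b).card).sum

/-- total number of the eigenvalues 1 of an element with parameter of order `n` -/
def cnS (p n : ℕ) (s : Multiset ℕ) : ℕ := (s.map fun b => cn p b n).sum

section

variable {p : ℕ} [hp : Fact p.Prime]

theorem two_sum (hp2 : p ≠ 2) (s : Multiset ℕ) (he : ∀ b ∈ s, Even b) :
    2 * (cnS p 4 s : ℤ) = dimS p s + (s.map fun b => prl t2 (tyl p b)).sum := by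
  induction s using Multiset.induction_on with
  | empty => rfl
  | cons b s ih =>
    have h1 := cn_four hp2 (he b (Multiset.mem_cons_self b s))
    have h2 := ih fun c hc => he c (Multiset.mem_cons_of_mem hc)
    unfold cnS dimS at h2 ⊢
    rw [Multiset.map_cons, Multiset.map_cons, Multiset.map_cons, Multiset.sum_cons, Multiset.sum_cons,
      Multiset.sum_cons, prl_eq, coe_tyl]
    push_cast at h2 ⊢
    linarith

theorem three_sum (hp3 : p ≠ 3) (s : Multiset ℕ) :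
    3 * (cnS p 3 s : ℤ) = dimS p s + 2 * (s.map fun b => prl t3 (tyl p b)).sum := by
  induction s using Multiset.induction_on with
  | empty => rfl
  | cons b s ih =>
    have h1 := cn_three hp3 b
    have h2 := ih
    unfold cnS dimS at h2 ⊢
    rw [Multiset.map_cons, Multiset.map_cons, Multiset.map_cons, Multiset.sum_cons, Multiset.sum_cons,
      Multiset.sum_cons, prl_eq, coe_tyl]
    push_cast at h2 ⊢
    linarith

theorem evenL_tyl (hp2 : p ≠ 2) {b : ℕ} (hb : Even b) : evenL (tyl p b) = true := by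
  unfold evenL
  rw [beq_iff_eq, ← Nat.even_iff]
  have h := (even_iff hp2 b).1 hb
  rwa [← coe_tyl, Multiset.sum_coe] at h

theorem sum_fst {A B : Type*} [AddCommMonoid A] [AddCommMonoid B] (s : Multiset ℕ) (f : ℕ → A × B) :
    (s.map f).sum = ((s.map fun b => (f b).1).sum, (s.map fun b => (f b).2).sum) := by
  induction s using Multiset.induction_on with
  | empty => rfl
  | cons b s ih =>
    rw [Multiset.map_cons, Multiset.map_cons, Multiset.map_cons, Multiset.sum_cons, Multiset.sum_cons,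
      Multiset.sum_cons, ih]
    rfl

/-- **`E6`, `p ≥ 5`** -/
theorem patE6 (hp5 : 5 ≤ p) (s : Multiset ℕ) (he : ∀ b ∈ s, Even b) (hD : dimS p s = 27)
    (h2 : cnS p 4 s = 15 ∨ cnS p 4 s = 11) (h3 : cnS p 3 s = 15 ∨ cnS p 3 s = 9) :
    ∃ w ∈ listE6, (w : Multiset (List ℕ)) = s.map (tyl p) := by
  rw [← pats_E6]
  refine exists_pats val23 evenL okE6 s (fun b hb => evenL_tyl (by omega) (he b hb)) (Or.inr (by norm_num))
    (by norm_num) hD ?_ (by rw [tys_E6]; norm_num)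
  have e2 := two_sum (p := p) (by omega) s he
  have e3 := three_sum (p := p) (by omega) s
  rw [hD] at e2 e3
  rw [sum_fst]
  show okE6 ((s.map fun b => prl t2 (tyl p b)).sum, (s.map fun b => prl t3 (tyl p b)).sum) = true
  generalize (s.map fun b => prl t2 (tyl p b)).sum = u at e2 ⊢
  generalize (s.map fun b => prl t3 (tyl p b)).sum = v at e3 ⊢
  have hu : u = 3 ∨ u = -5 := by
    rcases h2 with h | h <;> rw [h] at e2 <;> push_cast at e2 <;> omega
  have hv : v = 0 ∨ v = 9 := by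
    rcases h3 with h | h <;> rw [h] at e3 <;> push_cast at e3 <;> omega
  rcases hu with rfl | rfl <;> rcases hv with rfl | rfl <;> rfl

/-- **`F4`, `p ≥ 5`** (26-dimensional module) -/
theorem patF4 (hp5 : 5 ≤ p) (s : Multiset ℕ) (he : ∀ b ∈ s, Even b) (hD : dimS p s = 26)
    (h2 : cnS p 4 s = 14 ∨ cnS p 4 s = 10) (h3 : cnS p 3 s = 14 ∨ cnS p 3 s = 8) :
    ∃ w ∈ listF4, (w : Multiset (List ℕ)) = s.map (tyl p) := by
  rw [← pats_F4]
  refine exists_pats val23 evenL okF4 s (fun b hb => evenL_tyl (by omega) (he b hb)) (Or.inr (by norm_num))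
    (by norm_num) hD ?_ (by rw [tys_F4]; norm_num)
  have e2 := two_sum (p := p) (by omega) s he
  have e3 := three_sum (p := p) (by omega) s
  rw [hD] at e2 e3
  rw [sum_fst]
  show okF4 ((s.map fun b => prl t2 (tyl p b)).sum, (s.map fun b => prl t3 (tyl p b)).sum) = true
  generalize (s.map fun b => prl t2 (tyl p b)).sum = u at e2 ⊢
  generalize (s.map fun b => prl t3 (tyl p b)).sum = v at e3 ⊢
  have hu : u = 2 ∨ u = -6 := by
    rcases h2 with h | h <;> rw [h] at e2 <;> push_cast at e2 <;> omega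
  have hv : v = -1 ∨ v = 8 := by
    rcases h3 with h | h <;> rw [h] at e3 <;> push_cast at e3 <;> omega
  rcases hu with rfl | rfl <;> rcases hv with rfl | rfl <;> rfl

/-- **`E6`, `p = 3`** -/
theorem patE6_three (hp3 : p = 3) (s : Multiset ℕ) (he : ∀ b ∈ s, Even b) (hD : dimS p s = 27)
    (h2 : cnS p 4 s = 15 ∨ cnS p 4 s = 11) : ∃ w ∈ listE6_3, (w : Multiset (List ℕ)) = s.map (tyl p) := by
  rw [← pats_E6_3]
  refine exists_pats val23 evenL okE63 s (fun b hb => evenL_tyl (by omega) (he b hb)) (Or.inl (by omega))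
    (by norm_num) hD ?_ (by rw [tys_E6_3]; norm_num)
  have e2 := two_sum (p := p) (by omega) s he
  rw [hD] at e2
  rw [sum_fst]
  show okE63 ((s.map fun b => prl t2 (tyl p b)).sum, (s.map fun b => prl t3 (tyl p b)).sum) = true
  generalize (s.map fun b => prl t2 (tyl p b)).sum = u at e2 ⊢
  have hu : u = 3 ∨ u = -5 := by
    rcases h2 with h | h <;> rw [h] at e2 <;> push_cast at e2 <;> omega
  rcases hu with rfl | rfl <;> rfl

/-- **`F4`, `p = 3`** (26-dimensional module) -/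
theorem patF4_three (hp3 : p = 3) (s : Multiset ℕ) (he : ∀ b ∈ s, Even b) (hD : dimS p s = 26)
    (h2 : cnS p 4 s = 14 ∨ cnS p 4 s = 10) : ∃ w ∈ listF4_3, (w : Multiset (List ℕ)) = s.map (tyl p) := by
  rw [← pats_F4_3]
  refine exists_pats val23 evenL okF43 s (fun b hb => evenL_tyl (by omega) (he b hb)) (Or.inl (by omega))
    (by norm_num) hD ?_ (by rw [tys_F4_3]; norm_num)
  have e2 := two_sum (p := p) (by omega) s he
  rw [hD] at e2
  rw [sum_fst]
  show okF43 ((s.map fun b => prl t2 (tyl p b)).sum, (s.map fun b => prl t3 (tyl p b)).sum) = true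
  generalize (s.map fun b => prl t2 (tyl p b)).sum = u at e2 ⊢
  have hu : u = 2 ∨ u = -6 := by
    rcases h2 with h | h <;> rw [h] at e2 <;> push_cast at e2 <;> omega
  rcases hu with rfl | rfl <;> rfl

/-- **`E6`, `p = 2`** -/
theorem patE6_two (hp2 : p = 2) (s : Multiset ℕ) (hD : dimS p s = 27)
    (h3 : cnS p 3 s = 15 ∨ cnS p 3 s = 9) : ∃ w ∈ listE6_2, (w : Multiset (List ℕ)) = s.map (tyl p) := by
  rw [← pats_E6_2]
  refine exists_pats val23 (fun _ => true) okE62 s (fun b _ => rfl) (Or.inl (by omega))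
    (by norm_num) hD ?_ (by rw [tys_E6_2]; norm_num)
  have e3 := three_sum (p := p) (by omega) s
  rw [hD] at e3
  rw [sum_fst]
  show okE62 ((s.map fun b => prl t2 (tyl p b)).sum, (s.map fun b => prl t3 (tyl p b)).sum) = true
  generalize (s.map fun b => prl t3 (tyl p b)).sum = v at e3 ⊢
  have hv : v = 0 ∨ v = 9 := by
    rcases h3 with h | h <;> rw [h] at e3 <;> push_cast at e3 <;> omega
  rcases hv with rfl | rfl <;> rfl

/-- **`F4`, `p = 2`** (26-dimensional module) -/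
theorem patF4_two (hp2 : p = 2) (s : Multiset ℕ) (hD : dimS p s = 26)
    (h3 : cnS p 3 s = 14 ∨ cnS p 3 s = 8) : ∃ w ∈ listF4_2, (w : Multiset (List ℕ)) = s.map (tyl p) := by
  rw [← pats_F4_2]
  refine exists_pats val23 (fun _ => true) okF42 s (fun b _ => rfl) (Or.inl (by omega))
    (by norm_num) hD ?_ (by rw [tys_F4_2]; norm_num)
  have e3 := three_sum (p := p) (by omega) s
  rw [hD] at e3
  rw [sum_fst]
  show okF42 ((s.map fun b => prl t2 (tyl p b)).sum, (s.map fun b => prl t3 (tyl p b)).sum) = true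
  generalize (s.map fun b => prl t3 (tyl p b)).sum = v at e3 ⊢
  have hv : v = -1 ∨ v = 8 := by
    rcases h3 with h | h <;> rw [h] at e3 <;> push_cast at e3 <;> omega
  rcases hv with rfl | rfl <;> rfl

/-! ## the shape of `b` -/

/-- digits with positions -/
theorem exists_pos (b : ℕ) : ∃ z : Multiset (ℕ × ℕ), z.map Prod.fst = typ p b ∧ (z.map Prod.snd).Nodup ∧
    (z.map fun x => x.1 * p ^ x.2).sum = b := by
  refine rec_digits (p := p) (P := fun b => ∃ z : Multiset (ℕ × ℕ), z.map Prod.fst = typ p b ∧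
    (z.map Prod.snd).Nodup ∧ (z.map fun x => x.1 * p ^ x.2).sum = b) ?_ ?_ b
  · refine ⟨0, ?_, Multiset.nodup_zero, rfl⟩
    rw [typ_zero, Multiset.map_zero]
  · rintro b hb ⟨z, hz, hn, hs⟩
    have hz' : (z.map fun x => (x.1, x.2 + 1)).map Prod.fst = typ p (b / p) := by
      rw [Multiset.map_map, ← hz]
      rfl
    have hn' : ((z.map fun x => (x.1, x.2 + 1)).map Prod.snd).Nodup := by
      rw [Multiset.map_map]
      have h := Multiset.Nodup.map (f := fun i : ℕ => i + 1) (fun i j h => Nat.succ_injective h) hn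
      rwa [Multiset.map_map] at h
    have hs' : ((z.map fun x => (x.1, x.2 + 1)).map fun x => x.1 * p ^ x.2).sum = p * (b / p) := by
      rw [Multiset.map_map]
      conv_rhs => rw [← hs, ← Multiset.sum_map_mul_left]
      refine congrArg Multiset.sum (Multiset.map_congr rfl fun x _ => ?_)
      show x.1 * p ^ (x.2 + 1) = p * (x.1 * p ^ x.2)
      ring
    rw [typ_step hp.out.one_lt hb]
    by_cases h : b % p = 0
    · refine ⟨z.map fun x => (x.1, x.2 + 1), ?_, hn', ?_⟩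
      · rw [if_pos h, zero_add, hz']
      · rw [hs']
        exact Nat.mul_div_cancel' (Nat.dvd_of_mod_eq_zero h)
    · refine ⟨(b % p, 0) ::ₘ z.map fun x => (x.1, x.2 + 1), ?_, ?_, ?_⟩
      · rw [if_neg h, Multiset.map_cons, hz', Multiset.singleton_add]
      · rw [Multiset.map_cons, Multiset.nodup_cons]
        refine ⟨?_, hn'⟩
        intro h0
        rw [Multiset.map_map] at h0
        obtain ⟨x, _, hx⟩ := Multiset.mem_map.1 h0
        exact absurd hx (Nat.succ_ne_zero _)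
      · rw [Multiset.map_cons, Multiset.sum_cons, hs', pow_zero, mul_one, add_comm, Nat.div_add_mod]

theorem tyl_mem {b d : ℕ} (h : d ∈ tyl p b) : 1 ≤ d ∧ d < p := by
  have : d ∈ typ p b := by rw [← coe_tyl]; exact h
  exact mem_typ hp.out.one_lt this

theorem tyl_eq_nil {b : ℕ} : tyl p b = [] ↔ b = 0 := by
  constructor
  · intro h
    obtain ⟨z, hz, -, hs⟩ := exists_pos (p := p) b
    rw [← coe_tyl, h] at hz
    have hz0 : z = 0 := Multiset.map_eq_zero.1 hz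
    rw [← hs, hz0]
    rfl
  · rintro rfl
    have h := coe_tyl p 0
    rw [typ_zero] at h
    exact (Multiset.coe_eq_zero _).1 h

theorem tyl_one {b d : ℕ} (h : tyl p b = [d]) : ∃ i, b = d * p ^ i := by
  obtain ⟨z, hz, -, hs⟩ := exists_pos (p := p) b
  rw [← coe_tyl, h] at hz
  obtain ⟨x, rfl, hx⟩ := Multiset.map_eq_singleton.1 (hz.trans rfl : z.map Prod.fst = {d})
  refine ⟨x.2, ?_⟩
  rw [← hs, Multiset.map_singleton, Multiset.sum_singleton, hx]

theorem tyl_two {b c d : ℕ} (h : tyl p b = [c, d]) : ∃ i j, i ≠ j ∧ b = c * p ^ i + d * p ^ j := by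
  obtain ⟨z, hz, hn, hs⟩ := exists_pos (p := p) b
  rw [← coe_tyl, h] at hz
  obtain ⟨x, hx, rfl, hz2⟩ := (Multiset.map_eq_cons Prod.fst z _ c).2 (hz.trans rfl : z.map Prod.fst = c ::ₘ {d})
  obtain ⟨y, hy, rfl⟩ := Multiset.map_eq_singleton.1 hz2
  have hzz : z = x ::ₘ {y} := by rw [← hy, Multiset.cons_erase hx]
  rw [hzz] at hn hs
  refine ⟨x.2, y.2, ?_, ?_⟩
  · rw [Multiset.map_cons, Multiset.map_singleton, Multiset.nodup_cons, Multiset.mem_singleton] at hn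
    exact hn.1
  · rw [← hs]
    rfl

theorem length_tyl_le {b a : ℕ} (h : b < p ^ a) : (tyl p b).length ≤ a := by
  have h1 : (tyl p b).length = (typ p b).card := by rw [← coe_tyl, Multiset.coe_card]
  rw [h1]
  unfold typ
  rw [Multiset.coe_card]
  exact (List.length_filter_le _ _).trans (Nat.digits_length_le_iff hp.out.one_lt b |>.2 h)

end

end Cfsg.Agent.R2.SL2
end

-- part: R2/SL2/Bridge
section
/-!
# From the multiplicity functions of helper28 (`IsMult`) to the composition patterns (R2/SL2, helper17)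

* `ms p a n` : the multiset of composition weights of the multiplicity function `n`;
* `ev_four`, `ev_three` : dimension of the fixed space of the elements `g4`, `g3` of order 4, 3 of `SL2(F)`;
* `isMult_patE6`, `isMult_patE6_two`, `isMult_patE6_three`, `isMult_patF4`, ... : the patterns.
-/

set_option autoImplicit false
set_option linter.unusedSectionVars false

namespace Cfsg.Agent.R2.SL2

open Matrix Cfsg.Agent.H943.SL2Rel Cfsg.Agent.H943.SL2Mod Cfsg.Agent.H943.RepAdd Cfsg.Agent.R2.H28.SL2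
open Cfsg.Agent.H179.SLC (IsSS isSS_of_trace)

/-- the multiset of the composition weights -/
def ms (p a : ℕ) (n : ℕ → ℕ) : Multiset ℕ := ∑ b ∈ Finset.range (p ^ a), n b • ({b} : Multiset ℕ)

theorem mem_ms {p a : ℕ} {n : ℕ → ℕ} {b : ℕ} : b ∈ ms p a n ↔ b < p ^ a ∧ n b ≠ 0 := by
  unfold ms
  rw [Multiset.mem_sum]
  constructor
  · rintro ⟨c, hc, h⟩
    rw [Multiset.mem_nsmul] at h
    obtain rfl := Multiset.mem_singleton.1 h.2
    exact ⟨Finset.mem_range.1 hc, h.1⟩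
  · rintro ⟨h1, h2⟩
    exact ⟨b, Finset.mem_range.2 h1, by rw [Multiset.mem_nsmul]; exact ⟨h2, Multiset.mem_singleton_self b⟩⟩

theorem sum_ms (p a : ℕ) (n : ℕ → ℕ) (f : ℕ → ℕ) :
    ((ms p a n).map f).sum = ∑ b ∈ Finset.range (p ^ a), n b * f b := by
  unfold ms
  rw [← Multiset.coe_mapAddMonoidHom, map_sum, ← Multiset.coe_sumAddMonoidHom, map_sum]
  refine Finset.sum_congr rfl fun b _ => ?_
  rw [map_nsmul, map_nsmul, Multiset.coe_mapAddMonoidHom, Multiset.coe_sumAddMonoidHom, Multiset.map_singleton,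
    Multiset.sum_singleton, smul_eq_mul]

theorem count_ms {p a : ℕ} {n : ℕ → ℕ} (b : ℕ) : (ms p a n).count b = if b < p ^ a then n b else 0 := by
  unfold ms
  rw [Multiset.count_sum']
  simp only [Multiset.count_nsmul, Multiset.count_singleton, mul_ite, mul_one, mul_zero]
  rw [Finset.sum_ite_eq]
  simp only [Finset.mem_range]

/-- the element of order 4 of `SL2` -/
def g4 (F : Type*) [Field F] : _root_.Matrix.SpecialLinearGroup (Fin 2) F := ⟨!![0, -1; 1, 0], by simp [Matrix.det_fin_two]⟩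

/-- the element of order 3 of `SL2` -/
def g3 (F : Type*) [Field F] : _root_.Matrix.SpecialLinearGroup (Fin 2) F := ⟨!![0, -1; 1, -1], by simp [Matrix.det_fin_two]⟩

variable {k : Type*} [Field k] [DecidableEq k] {F : Type*} [Field F] [Fintype F] [DecidableEq F] (ι : F →+* k)
variable {p : ℕ} [hp : Fact p.Prime] [CharP k p]

theorem Bf_eq (b : ℕ) : Bf k b = Bp p b := by
  ext m
  rw [mem_Bf, mem_Bp]
  show (m ≤ b ∧ ((b.choose m : ℕ) : k) ≠ 0) ↔ _
  rw [Ne, CharP.cast_eq_zero_iff k p]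

theorem mf_eq_cn (b : ℕ) {ζ : k} (hζ : ζ ≠ 0) : mf b ζ 1 = cn p b (orderOf (Units.mk0 ζ hζ)) := by
  rw [← card_filter_zpow]
  unfold mf
  rw [Bf_eq (p := p)]
  congr 1
  refine Finset.filter_congr fun m hm => ?_
  have hmb := (mem_Bp.1 hm).1
  have h1 : ((Units.mk0 ζ hζ ^ (2 * (m : ℤ) - b) : kˣ) : k) = ζ ^ m * ζ⁻¹ ^ (b - m) := by
    have h2 : (2 * (m : ℤ) - b) = (m : ℤ) - ((b - m : ℕ) : ℤ) := by
      rw [Nat.cast_sub hmb]
      ring
    rw [h2, _root_.zpow_sub, zpow_natCast, zpow_natCast, Units.val_mul, Units.val_pow_eq_pow_val, ← inv_pow,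
      Units.val_pow_eq_pow_val]
    rfl
  rw [← h1, Units.val_eq_one]

variable {ι}

theorem two_ne (hp2 : p ≠ 2) : (2 : k) ≠ 0 := by
  intro h
  have h2 : ((2 : ℕ) : k) = 0 := by exact_mod_cast h
  rw [CharP.cast_eq_zero_iff k p] at h2
  exact hp2 ((Nat.prime_dvd_prime_iff_eq hp.out Nat.prime_two).1 h2)

theorem three_ne (hp3 : p ≠ 3) : (3 : k) ≠ 0 := by
  intro h
  have h2 : ((3 : ℕ) : k) = 0 := by exact_mod_cast h
  rw [CharP.cast_eq_zero_iff k p] at h2
  exact hp3 ((Nat.prime_dvd_prime_iff_eq hp.out Nat.prime_three).1 h2)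

theorem orderOf_four (h2 : (2 : k) ≠ 0) {ζ : k} (hζ : ζ ≠ 0) (h : ζ ^ 2 = -1) : orderOf (Units.mk0 ζ hζ) = 4 := by
  have h4 : (Units.mk0 ζ hζ) ^ (2 ^ 2) = 1 := Units.ext (by
    rw [Units.val_pow_eq_pow_val]
    show ζ ^ (2 ^ 2) = 1
    linear_combination (ζ ^ 2 - 1) * h)
  have h3 : ¬ (Units.mk0 ζ hζ) ^ (2 ^ 1) = 1 := by
    intro h1
    have h5 := congrArg Units.val h1
    rw [Units.val_pow_eq_pow_val] at h5
    have h6 : ζ ^ 2 = 1 := h5
    apply h2
    rw [h] at h6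
    linear_combination -h6
  exact orderOf_eq_prime_pow h3 h4

theorem orderOf_three (h3 : (3 : k) ≠ 0) {ζ : k} (hζ : ζ ≠ 0) (h : ζ ^ 2 + ζ + 1 = 0) :
    orderOf (Units.mk0 ζ hζ) = 3 := by
  refine orderOf_eq_prime (Units.ext ?_) ?_
  · rw [Units.val_pow_eq_pow_val]
    show ζ ^ 3 = 1
    linear_combination (ζ - 1) * h
  · intro h1
    have h2 : ζ = 1 := congrArg Units.val h1
    rw [h2] at h
    exact h3 (by linear_combination h)

theorem isSS_g4 (h2 : (2 : k) ≠ 0) {ζ : k} (h : ζ ^ 2 = -1) : IsSS ι (g4 F) ζ := by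
  have hζ : ζ ≠ 0 := by
    rintro rfl
    apply one_ne_zero (α := k)
    linear_combination h
  have hinv : ζ⁻¹ = -ζ := by
    rw [inv_eq_iff_eq_inv, eq_comm, inv_eq_of_mul_eq_one_left]
    linear_combination -h
  refine isSS_of_trace ι hζ ?_ ?_
  · rw [hinv, add_neg_cancel]
    show ι (0 + 0) = 0
    rw [add_zero, map_zero]
  · rw [hinv]
    intro h1
    apply hζ
    have : 2 * ζ = 0 := by linear_combination h1
    exact (mul_eq_zero.1 this).resolve_left h2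

theorem isSS_g3 (h3 : (3 : k) ≠ 0) {ζ : k} (h : ζ ^ 2 + ζ + 1 = 0) : IsSS ι (g3 F) ζ := by
  have hζ : ζ ≠ 0 := by
    rintro rfl
    apply one_ne_zero (α := k)
    linear_combination h
  have hinv : ζ⁻¹ = ζ ^ 2 := by
    rw [inv_eq_iff_eq_inv, eq_comm, inv_eq_of_mul_eq_one_left]
    linear_combination (ζ - 1) * h
  refine isSS_of_trace ι hζ ?_ ?_
  · rw [hinv]
    show ι (0 + -1) = ζ + ζ ^ 2
    rw [zero_add, map_neg, map_one]
    linear_combination -h
  · rw [hinv]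
    intro h1
    apply h3
    have h4 : ζ = 1 := by
      have : ζ * (ζ - 1) = 0 := by linear_combination -h1
      exact sub_eq_zero.1 ((mul_eq_zero.1 this).resolve_left hζ)
    rw [h4] at h
    linear_combination h

section

variable {a : ℕ} {V : Type*} [AddCommGroup V] [Module k V]
  {ρ : Representation k (_root_.Matrix.SpecialLinearGroup (Fin 2) F) V} {n : ℕ → ℕ} (H : IsMult ι p a ρ n)

include H

theorem dim_ms : dimS p (ms p a n) = Module.finrank k V := by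
  unfold dimS
  rw [sum_ms, H.dim]
  exact Finset.sum_congr rfl fun b _ => by rw [Bf_eq (p := p)]

theorem ev_ss {g : _root_.Matrix.SpecialLinearGroup (Fin 2) F} {ζ : k} (hζ : ζ ≠ 0) (hg : IsSS ι g ζ) {N : ℕ} (hN : (N : k) ≠ 0)
    (ho : orderOf (Units.mk0 ζ hζ) = N) : cnS p N (ms p a n) = Module.finrank k (eig ρ g 1) := by
  unfold cnS
  have h1 : ζ ^ N = 1 := by
    rw [← ho]
    exact congrArg Units.val (pow_orderOf_eq_one (Units.mk0 ζ hζ))
  rw [sum_ms, H.eigen g ζ N hg h1 hN 1 (one_pow _)]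
  exact Finset.sum_congr rfl fun b _ => by rw [mf_eq_cn (p := p) b hζ, ho]

theorem ev_four (hp2 : p ≠ 2) [IsAlgClosed k] : cnS p 4 (ms p a n) = Module.finrank k (eig ρ (g4 F) 1) := by
  obtain ⟨ζ, hζ⟩ := IsAlgClosed.exists_pow_nat_eq (-1 : k) (n := 2) (by norm_num)
  have h2 := two_ne (k := k) hp2
  have h0 : ζ ≠ 0 := by
    rintro rfl
    apply one_ne_zero (α := k)
    linear_combination hζ
  refine ev_ss H h0 (isSS_g4 h2 hζ) ?_ (orderOf_four h2 h0 hζ)
  have : ((4 : ℕ) : k) = 2 * 2 := by norm_num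
  rw [this]
  exact mul_ne_zero h2 h2

theorem ev_three (hp3 : p ≠ 3) [IsAlgClosed k] : cnS p 3 (ms p a n) = Module.finrank k (eig ρ (g3 F) 1) := by
  have h3 := three_ne (k := k) hp3
  obtain ⟨ζ, hζ⟩ : ∃ ζ : k, ζ ^ 2 + ζ + 1 = 0 := by
    obtain ⟨z, hz⟩ := IsAlgClosed.exists_root (Polynomial.X ^ 2 + Polynomial.X + 1 : Polynomial k) (by
      have h1 : (Polynomial.X ^ 2 + Polynomial.X + 1 : Polynomial k).degree = 2 := by
        have h2 : (Polynomial.X ^ 2 + Polynomial.X + 1 : Polynomial k) =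
            Polynomial.C 1 * Polynomial.X ^ 2 + Polynomial.C 1 * Polynomial.X + Polynomial.C 1 := by
          simp
        rw [h2, Polynomial.degree_quadratic one_ne_zero]
      rw [h1]
      norm_num)
    refine ⟨z, ?_⟩
    rw [Polynomial.IsRoot.def] at hz
    simpa only [_root_.Polynomial.eval_add, _root_.Polynomial.eval_pow, _root_.Polynomial.eval_X, _root_.Polynomial.eval_one] using hz
  have h0 : ζ ≠ 0 := by
    rintro rfl
    apply one_ne_zero (α := k)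
    linear_combination hζ
  exact ev_ss H h0 (isSS_g3 h3 hζ) (by exact_mod_cast h3) (orderOf_three h3 h0 hζ)

theorem even_ms [CharP F p] (hp2 : p ≠ 2) (hc : ρ (Cfsg.Agent.H943.SL2Rel.h (-1)) = 1) [FiniteDimensional k V] :
    ∀ b ∈ ms p a n, Even b := fun b hb => H.even ι p hp2 hc b (mem_ms.1 hb).2

/-- **`E6`, `p ≥ 5`** -/
theorem isMult_patE6 [CharP F p] [IsAlgClosed k] [FiniteDimensional k V] (hp5 : 5 ≤ p)
    (hc : ρ (Cfsg.Agent.H943.SL2Rel.h (-1)) = 1) (hd : Module.finrank k V = 27)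
    (h4 : Module.finrank k (eig ρ (g4 F) 1) = 15 ∨ Module.finrank k (eig ρ (g4 F) 1) = 11)
    (h3 : Module.finrank k (eig ρ (g3 F) 1) = 15 ∨ Module.finrank k (eig ρ (g3 F) 1) = 9) :
    ∃ w ∈ listE6, (w : Multiset (List ℕ)) = (ms p a n).map (tyl p) :=
  patE6 hp5 _ (even_ms H (by omega) hc) ((dim_ms H).trans hd) (by rwa [ev_four H (by omega)])
    (by rwa [ev_three H (by omega)])

theorem isMult_patE6_three [CharP F p] [IsAlgClosed k] [FiniteDimensional k V] (hp3 : p = 3)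
    (hc : ρ (Cfsg.Agent.H943.SL2Rel.h (-1)) = 1) (hd : Module.finrank k V = 27)
    (h4 : Module.finrank k (eig ρ (g4 F) 1) = 15 ∨ Module.finrank k (eig ρ (g4 F) 1) = 11) :
    ∃ w ∈ listE6_3, (w : Multiset (List ℕ)) = (ms p a n).map (tyl p) :=
  patE6_three hp3 _ (even_ms H (by omega) hc) ((dim_ms H).trans hd) (by rwa [ev_four H (by omega)])

theorem isMult_patE6_two [CharP F p] [IsAlgClosed k] [FiniteDimensional k V] (hp2 : p = 2)
    (hd : Module.finrank k V = 27)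
    (h3 : Module.finrank k (eig ρ (g3 F) 1) = 15 ∨ Module.finrank k (eig ρ (g3 F) 1) = 9) :
    ∃ w ∈ listE6_2, (w : Multiset (List ℕ)) = (ms p a n).map (tyl p) :=
  patE6_two hp2 _ ((dim_ms H).trans hd) (by rwa [ev_three H (by omega)])

/-- **`F4`, `p ≥ 5`** -/
theorem isMult_patF4 [CharP F p] [IsAlgClosed k] [FiniteDimensional k V] (hp5 : 5 ≤ p)
    (hc : ρ (Cfsg.Agent.H943.SL2Rel.h (-1)) = 1) (hd : Module.finrank k V = 26)
    (h4 : Module.finrank k (eig ρ (g4 F) 1) = 14 ∨ Module.finrank k (eig ρ (g4 F) 1) = 10)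
    (h3 : Module.finrank k (eig ρ (g3 F) 1) = 14 ∨ Module.finrank k (eig ρ (g3 F) 1) = 8) :
    ∃ w ∈ listF4, (w : Multiset (List ℕ)) = (ms p a n).map (tyl p) :=
  patF4 hp5 _ (even_ms H (by omega) hc) ((dim_ms H).trans hd) (by rwa [ev_four H (by omega)])
    (by rwa [ev_three H (by omega)])

theorem isMult_patF4_three [CharP F p] [IsAlgClosed k] [FiniteDimensional k V] (hp3 : p = 3)
    (hc : ρ (Cfsg.Agent.H943.SL2Rel.h (-1)) = 1) (hd : Module.finrank k V = 26)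
    (h4 : Module.finrank k (eig ρ (g4 F) 1) = 14 ∨ Module.finrank k (eig ρ (g4 F) 1) = 10) :
    ∃ w ∈ listF4_3, (w : Multiset (List ℕ)) = (ms p a n).map (tyl p) :=
  patF4_three hp3 _ (even_ms H (by omega) hc) ((dim_ms H).trans hd) (by rwa [ev_four H (by omega)])

theorem isMult_patF4_two [CharP F p] [IsAlgClosed k] [FiniteDimensional k V] (hp2 : p = 2)
    (hd : Module.finrank k V = 26)
    (h3 : Module.finrank k (eig ρ (g3 F) 1) = 14 ∨ Module.finrank k (eig ρ (g3 F) 1) = 8) :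
    ∃ w ∈ listF4_2, (w : Multiset (List ℕ)) = (ms p a n).map (tyl p) :=
  patF4_two hp2 _ ((dim_ms H).trans hd) (by rwa [ev_three H (by omega)])

end

end Cfsg.Agent.R2.SL2
end

private theorem dce_99cedad3fec9 : _root_.True := by
  try have : _root_.True := by simp only [_root_.Cfsg.Agent.R2.SL2.pats.eq_def]
  exact _root_.True.intro
end

-- part: R2/H6P2/FS
section
prune_inst 0x4101041017422000000040010220000e1230004020040000000a4050a0dc9844000420800ba3024120080808458380048131000200240000000000400011c01a0808002003040010c000001800000000000000000000000000000000000000000000000000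
set_option linter.all false
open scoped Cfsg.Agent.FastGrp

-- part: R2/H6P2/Alt
section
/-!
# S5749, S5750, box P2: alternating maps on tensor products of 2-dimensional modules (helper6)

Characteristic 2. `NS σ d` : no non-zero submodules of dimension `< d`; `AltZ ρ d` : every equivariant alternating bilinear
map from `ρ` to a module with `NS _ d` vanishes; `AltZ.step` : `AltZ ρ d → AltZ (X ⊗ ρ) (2 d)`.
-/

set_option autoImplicit false
set_option linter.unusedSectionVars false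

namespace Cfsg.Agent.R2.H6P2

open Module Matrix

universe u v w x

variable {k : Type u} [Field k] {G : Type w} [Group G]

/-- stable subspaces -/
def Stb {V : Type*} [AddCommGroup V] [Module k V] (σ : Representation k G V) (W : Submodule k V) : Prop :=
  ∀ g, ∀ w ∈ W, σ g w ∈ W

/-- no non-zero submodules of dimension `< d` -/
def NS {V : Type*} [AddCommGroup V] [Module k V] (σ : Representation k G V) (d : ℕ) : Prop :=
  ∀ W : Submodule k V, Stb σ W → finrank k W < d → W = ⊥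

theorem NS.mono {V : Type*} [AddCommGroup V] [Module k V] {σ : Representation k G V} {d d' : ℕ} (h : NS σ d)
    (hd : d' ≤ d) : NS σ d' := fun W hW h1 => h W hW (h1.trans_le hd)

/-- every equivariant alternating bilinear map to a module without small submodules vanishes -/
def AltZ {R : Type x} [AddCommGroup R] [Module k R] (ρ : Representation k G R) (d : ℕ) : Prop :=
  ∀ (V : Type v) [AddCommGroup V] [Module k V] [FiniteDimensional k V] (σ : Representation k G V), NS σ d →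
    ∀ β : R →ₗ[k] R →ₗ[k] V, (∀ r, β r r = 0) → (∀ g r r', β (ρ g r) (ρ g r') = σ g (β r r')) → ∀ r r', β r r' = 0

/-- `τ` is a quotient of `X ⊗ ρ` -/
structure Tens (X : G → Matrix (Fin 2) (Fin 2) k) {R : Type*} [AddCommGroup R] [Module k R]
    (ρ : Representation k G R) {E : Type*} [AddCommGroup E] [Module k E] (τ : Representation k G E)
    (j₀ j₁ : R →ₗ[k] E) : Prop where
  det : ∀ g, X g 0 0 * X g 1 1 - X g 0 1 * X g 1 0 = 1
  one : X 1 = 1
  mul : ∀ g h, X (g * h) = X g * X h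
  act₀ : ∀ g r, τ g (j₀ r) = X g 0 0 • j₀ (ρ g r) + X g 1 0 • j₁ (ρ g r)
  act₁ : ∀ g r, τ g (j₁ r) = X g 0 1 • j₀ (ρ g r) + X g 1 1 • j₁ (ρ g r)
  span : ∀ e, ∃ r₀ r₁, e = j₀ r₀ + j₁ r₁

section twist

variable {V : Type v} [AddCommGroup V] [Module k V] (σ : Representation k G V) (X : G → Matrix (Fin 2) (Fin 2) k)

/-- the action on `Hom (X^(2), V)` -/
noncomputable def twMap (g : G) : (Fin 2 → V) →ₗ[k] (Fin 2 → V) where
  toFun f := ![X g 1 1 ^ 2 • σ g (f 0) + X g 1 0 ^ 2 • σ g (f 1), X g 0 1 ^ 2 • σ g (f 0) + X g 0 0 ^ 2 • σ g (f 1)]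
  map_add' f f' := by
    funext i
    fin_cases i
    · show X g 1 1 ^ 2 • σ g (f 0 + f' 0) + X g 1 0 ^ 2 • σ g (f 1 + f' 1) =
        (X g 1 1 ^ 2 • σ g (f 0) + X g 1 0 ^ 2 • σ g (f 1)) + (X g 1 1 ^ 2 • σ g (f' 0) + X g 1 0 ^ 2 • σ g (f' 1))
      rw [map_add, map_add, smul_add, smul_add]
      abel
    · show X g 0 1 ^ 2 • σ g (f 0 + f' 0) + X g 0 0 ^ 2 • σ g (f 1 + f' 1) =
        (X g 0 1 ^ 2 • σ g (f 0) + X g 0 0 ^ 2 • σ g (f 1)) + (X g 0 1 ^ 2 • σ g (f' 0) + X g 0 0 ^ 2 • σ g (f' 1))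
      rw [map_add, map_add, smul_add, smul_add]
      abel
  map_smul' c f := by
    funext i
    fin_cases i
    · show X g 1 1 ^ 2 • σ g (c • f 0) + X g 1 0 ^ 2 • σ g (c • f 1) =
        c • (X g 1 1 ^ 2 • σ g (f 0) + X g 1 0 ^ 2 • σ g (f 1))
      rw [map_smul, map_smul, smul_add, smul_comm c, smul_comm c]
    · show X g 0 1 ^ 2 • σ g (c • f 0) + X g 0 0 ^ 2 • σ g (c • f 1) =
        c • (X g 0 1 ^ 2 • σ g (f 0) + X g 0 0 ^ 2 • σ g (f 1))
      rw [map_smul, map_smul, smul_add, smul_comm c, smul_comm c]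

theorem twMap_zero (g : G) (f : Fin 2 → V) :
    twMap σ X g f 0 = X g 1 1 ^ 2 • σ g (f 0) + X g 1 0 ^ 2 • σ g (f 1) := rfl

theorem twMap_one (g : G) (f : Fin 2 → V) :
    twMap σ X g f 1 = X g 0 1 ^ 2 • σ g (f 0) + X g 0 0 ^ 2 • σ g (f 1) := rfl

/-- the representation on `Hom (X^(2), V)`, characteristic 2 -/
noncomputable def twRep [CharP k 2] (h1 : X 1 = 1) (h2 : ∀ g h, X (g * h) = X g * X h) :
    Representation k G (Fin 2 → V) where
  toFun := twMap σ X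
  map_one' := by
    refine LinearMap.ext fun f => funext fun i => ?_
    fin_cases i
    · show X 1 1 1 ^ 2 • σ 1 (f 0) + X 1 1 0 ^ 2 • σ 1 (f 1) = f 0
      rw [h1, map_one]
      simp
    · show X 1 0 1 ^ 2 • σ 1 (f 0) + X 1 0 0 ^ 2 • σ 1 (f 1) = f 1
      rw [h1, map_one]
      simp only [_root_.Fin.isValue, _root_.ne_eq, _root_.zero_ne_one, _root_.not_false_eq_true, _root_.Matrix.one_apply_ne, _root_.OfNat.ofNat_ne_zero, _root_.zero_pow, _root_.Module.End.one_apply, _root_.zero_smul, _root_.Matrix.one_apply_eq, _root_.one_pow, _root_.one_smul, _root_.zero_add]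
  map_mul' g h := by
    have hsq : ∀ a b : k, (a + b) ^ 2 = a ^ 2 + b ^ 2 := fun a b => by
      have h2 : (2 : k) = 0 := CharTwo.two_eq_zero
      linear_combination (a * b) * h2
    have e : ∀ i j, X (g * h) i j = X g i 0 * X h 0 j + X g i 1 * X h 1 j := fun i j => by
      rw [h2, Matrix.mul_apply, Fin.sum_univ_two]
    refine LinearMap.ext fun f => funext fun i => ?_
    fin_cases i
    · show X (g * h) 1 1 ^ 2 • σ (g * h) (f 0) + X (g * h) 1 0 ^ 2 • σ (g * h) (f 1) =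
        X g 1 1 ^ 2 • σ g (X h 1 1 ^ 2 • σ h (f 0) + X h 1 0 ^ 2 • σ h (f 1)) +
        X g 1 0 ^ 2 • σ g (X h 0 1 ^ 2 • σ h (f 0) + X h 0 0 ^ 2 • σ h (f 1))
      rw [e, e, hsq, hsq, map_mul, Module.End.mul_apply, Module.End.mul_apply, map_add, map_add, map_smul, map_smul,
        map_smul, map_smul]
      module
    · show X (g * h) 0 1 ^ 2 • σ (g * h) (f 0) + X (g * h) 0 0 ^ 2 • σ (g * h) (f 1) =
        X g 0 1 ^ 2 • σ g (X h 1 1 ^ 2 • σ h (f 0) + X h 1 0 ^ 2 • σ h (f 1)) +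
        X g 0 0 ^ 2 • σ g (X h 0 1 ^ 2 • σ h (f 0) + X h 0 0 ^ 2 • σ h (f 1))
      rw [e, e, hsq, hsq, map_mul, Module.End.mul_apply, Module.End.mul_apply, map_add, map_add, map_smul, map_smul,
        map_smul, map_smul]
      module

theorem twRep_apply [CharP k 2] (h1 : X 1 = 1) (h2 : ∀ g h, X (g * h) = X g * X h) (g : G) (f : Fin 2 → V) :
    twRep σ X h1 h2 g f = twMap σ X g f := rfl

end twist

section step

variable [CharP k 2] {X : G → Matrix (Fin 2) (Fin 2) k} {R : Type x} [AddCommGroup R] [Module k R]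
  [FiniteDimensional k R] {ρ : Representation k G R} {E : Type*} [AddCommGroup E] [Module k E]
  {τ : Representation k G E} {j₀ j₁ : R →ₗ[k] E}

omit [CharP k 2] in
theorem det_sq [CharP k 2] {a b c d : k} (h : a * d - b * c = 1) : a ^ 2 * d ^ 2 + b ^ 2 * c ^ 2 = 1 := by
  have h2 : (2 : k) = 0 := CharTwo.two_eq_zero
  linear_combination (a * d - b * c + 1) * h + (a * b * c * d) * h2

theorem NS.tw {V : Type v} [AddCommGroup V] [Module k V] [FiniteDimensional k V] {σ : Representation k G V}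
    {d : ℕ} (h : NS σ (2 * d)) (h1 : X 1 = 1) (h2 : ∀ g h, X (g * h) = X g * X h)
    (hd : ∀ g, X g 0 0 * X g 1 1 - X g 0 1 * X g 1 0 = 1) : NS (twRep σ X h1 h2) d := by
  have h20 : (2 : k) = 0 := CharTwo.two_eq_zero
  intro P hP hPd
  set W : Submodule k V := P.map (LinearMap.proj 0) ⊔ P.map (LinearMap.proj 1) with hW
  have hWd : finrank k W < 2 * d := by
    have e1 := Submodule.finrank_add_le_finrank_add_finrank (P.map (LinearMap.proj (R := k) (φ := fun _ => V) (0 : Fin 2)))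
      (P.map (LinearMap.proj (R := k) (φ := fun _ => V) (1 : Fin 2)))
    have e2 := Submodule.finrank_map_le (LinearMap.proj (R := k) (φ := fun _ => V) (0 : Fin 2)) P
    have e3 := Submodule.finrank_map_le (LinearMap.proj (R := k) (φ := fun _ => V) (1 : Fin 2)) P
    have e4 : finrank k W ≤ _ := e1
    omega
  have h0 : ∀ f ∈ P, f 0 ∈ W := fun f hf => Submodule.mem_sup_left ⟨f, hf, rfl⟩
  have h1' : ∀ f ∈ P, f 1 ∈ W := fun f hf => Submodule.mem_sup_right ⟨f, hf, rfl⟩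
  have hWs : Stb σ W := by
    intro g w hw
    have key : ∀ f ∈ P, σ g (f 0) ∈ W ∧ σ g (f 1) ∈ W := by
      intro f hf
      have hf' := hP g f hf
      rw [twRep_apply] at hf'
      have e0 := h0 _ hf'
      have e1 := h1' _ hf'
      rw [twMap_zero] at e0
      rw [twMap_one] at e1
      have hdd := det_sq (hd g)
      constructor
      · have e2 : σ g (f 0) = X g 0 0 ^ 2 • (X g 1 1 ^ 2 • σ g (f 0) + X g 1 0 ^ 2 • σ g (f 1)) +
            X g 1 0 ^ 2 • (X g 0 1 ^ 2 • σ g (f 0) + X g 0 0 ^ 2 • σ g (f 1)) := by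
          have e3 : (X g 0 0 ^ 2 * X g 1 0 ^ 2 * 2) = (0 : k) := by rw [h20, mul_zero]
          calc σ g (f 0) = (X g 0 0 ^ 2 * X g 1 1 ^ 2 + X g 0 1 ^ 2 * X g 1 0 ^ 2) • σ g (f 0) +
                (X g 0 0 ^ 2 * X g 1 0 ^ 2 * 2) • σ g (f 1) := by rw [hdd, one_smul, e3, zero_smul, add_zero]
            _ = _ := by module
        rw [e2]
        exact W.add_mem (W.smul_mem _ e0) (W.smul_mem _ e1)
      · have e2 : σ g (f 1) = X g 0 1 ^ 2 • (X g 1 1 ^ 2 • σ g (f 0) + X g 1 0 ^ 2 • σ g (f 1)) +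
            X g 1 1 ^ 2 • (X g 0 1 ^ 2 • σ g (f 0) + X g 0 0 ^ 2 • σ g (f 1)) := by
          have e3 : (X g 0 1 ^ 2 * X g 1 1 ^ 2 * 2) = (0 : k) := by rw [h20, mul_zero]
          calc σ g (f 1) = (X g 0 0 ^ 2 * X g 1 1 ^ 2 + X g 0 1 ^ 2 * X g 1 0 ^ 2) • σ g (f 1) +
                (X g 0 1 ^ 2 * X g 1 1 ^ 2 * 2) • σ g (f 0) := by rw [hdd, one_smul, e3, zero_smul, add_zero]
            _ = _ := by module
        rw [e2]
        exact W.add_mem (W.smul_mem _ e0) (W.smul_mem _ e1)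
    obtain ⟨a, ha, b, hb, rfl⟩ := Submodule.mem_sup.1 hw
    obtain ⟨f, hf, rfl⟩ := ha
    obtain ⟨f', hf', rfl⟩ := hb
    rw [map_add]
    exact W.add_mem (key f hf).1 (key f' hf').2
  have hW0 := h W hWs hWd
  rw [eq_bot_iff]
  intro f hf
  rw [Submodule.mem_bot]
  funext i
  fin_cases i
  · have e1 := h0 f hf
    rw [hW0, Submodule.mem_bot] at e1
    exact e1
  · have e1 := h1' f hf
    rw [hW0, Submodule.mem_bot] at e1
    exact e1

/-- **the induction step** -/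
theorem AltZ.step {d : ℕ} (hρ : AltZ.{u, v, w, x} ρ d) (hd : finrank k R ≤ d) (hd1 : 1 ≤ d)
    (hT : Tens X ρ τ j₀ j₁) : AltZ.{u, v, w} τ (2 * d) := by
  intro V _ _ _ σ hσ β hβ hβg
  have h20 : (2 : k) = 0 := CharTwo.two_eq_zero
  have hneg : ∀ v : V, -v = v := fun v => by
    have e : v + v = 0 := by rw [← two_smul k v, h20, zero_smul]
    exact (eq_neg_of_add_eq_zero_left e).symm
  have hsymm : ∀ e e', β e e' = β e' e := by
    intro e e'
    have h1 := hβ (e + e')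
    simp only [map_add, LinearMap.add_apply] at h1
    rw [hβ, hβ, zero_add, add_zero, add_comm] at h1
    rw [← hneg (β e' e)]
    exact eq_neg_of_add_eq_zero_left h1
  have hdet := hT.det
  have hdet' : ∀ g, X g 0 0 * X g 1 1 + X g 0 1 * X g 1 0 = 1 := fun g => by
    linear_combination hdet g + (X g 0 1 * X g 1 0) * h20
  -- the polarization of `δ`
  have hσd : NS σ d := hσ.mono (by omega)
  have hD : ∀ r r', β (j₀ r) (j₁ r') + β (j₀ r') (j₁ r) = 0 := by
    let B1 : R →ₗ[k] R →ₗ[k] V := (β.compl₁₂ j₀ j₁) + (β.compl₁₂ j₀ j₁).flip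
    have hB1 : ∀ r r', B1 r r' = β (j₀ r) (j₁ r') + β (j₀ r') (j₁ r) := fun r r' => rfl
    intro r r'
    rw [← hB1]
    refine hρ V σ hσd B1 (fun r => ?_) (fun g r r' => ?_) r r'
    · rw [hB1, ← two_smul k, h20, zero_smul]
    · rw [hB1, hB1, map_add, ← hβg, ← hβg, hT.act₀, hT.act₁, hT.act₀, hT.act₁]
      simp only [map_add, map_smul, LinearMap.add_apply, LinearMap.smul_apply]
      rw [hsymm (j₁ (ρ g r)) (j₀ (ρ g r')), hsymm (j₁ (ρ g r')) (j₀ (ρ g r)), hsymm (j₀ (ρ g r')) (j₀ (ρ g r)),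
        hsymm (j₁ (ρ g r')) (j₁ (ρ g r))]
      have e1 : (2 * (X g 0 0 * X g 0 1)) = (0 : k) := by rw [h20, zero_mul]
      have e2 : (2 * (X g 1 0 * X g 1 1)) = (0 : k) := by rw [h20, zero_mul]
      calc β (j₀ (ρ g r)) (j₁ (ρ g r')) + β (j₀ (ρ g r')) (j₁ (ρ g r))
          = (X g 0 0 * X g 1 1 + X g 0 1 * X g 1 0) • (β (j₀ (ρ g r)) (j₁ (ρ g r')) + β (j₀ (ρ g r')) (j₁ (ρ g r))) +
            (2 * (X g 0 0 * X g 0 1)) • β (j₀ (ρ g r)) (j₀ (ρ g r')) +
            (2 * (X g 1 0 * X g 1 1)) • β (j₁ (ρ g r)) (j₁ (ρ g r')) := by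
              rw [hdet', one_smul, e1, e2, zero_smul, zero_smul, add_zero, add_zero]
        _ = _ := by module
  -- `δ = 0`
  have hδ : ∀ r, β (j₀ r) (j₁ r) = 0 := by
    have hadd : ∀ r r', β (j₀ (r + r')) (j₁ (r + r')) = β (j₀ r) (j₁ r) + β (j₀ r') (j₁ r') := by
      intro r r'
      simp only [map_add, LinearMap.add_apply]
      have e1 := hD r r'
      calc _ = β (j₀ r) (j₁ r) + β (j₀ r') (j₁ r') + (β (j₀ r) (j₁ r') + β (j₀ r') (j₁ r)) := by abel
        _ = _ := by rw [e1, add_zero]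
    have hsm : ∀ (t : k) r, β (j₀ (t • r)) (j₁ (t • r)) = t ^ 2 • β (j₀ r) (j₁ r) := by
      intro t r
      simp only [map_smul, LinearMap.smul_apply]
      rw [smul_smul, sq]
    have heq : ∀ g r, σ g (β (j₀ r) (j₁ r)) = β (j₀ (ρ g r)) (j₁ (ρ g r)) := by
      intro g r
      rw [← hβg, hT.act₀, hT.act₁]
      simp only [map_add, map_smul, LinearMap.add_apply, LinearMap.smul_apply, hβ, smul_zero, zero_add, add_zero]
      rw [hsymm (j₁ (ρ g r)) (j₀ (ρ g r))]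
      calc _ = (X g 0 0 * X g 1 1 + X g 0 1 * X g 1 0) • β (j₀ (ρ g r)) (j₁ (ρ g r)) := by module
        _ = _ := by rw [hdet', one_smul]
    let b := Module.finBasis k R
    set W : Submodule k V := Submodule.span k (Set.range fun i => β (j₀ (b i)) (j₁ (b i))) with hW
    have hmem : ∀ r, β (j₀ r) (j₁ r) ∈ W := by
      intro r
      have e1 : ∀ (s : Finset (Fin (finrank k R))) (c : Fin (finrank k R) → k),
          β (j₀ (∑ i ∈ s, c i • b i)) (j₁ (∑ i ∈ s, c i • b i)) ∈ W := by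
        intro s c
        induction s using Finset.induction_on with
        | empty => simp
        | insert i s his ih =>
          rw [Finset.sum_insert his, hadd, hsm]
          exact W.add_mem (W.smul_mem _ (Submodule.subset_span ⟨i, rfl⟩)) ih
      have e2 := e1 Finset.univ (b.repr r)
      rwa [b.sum_repr] at e2
    have hWs : Stb σ W := by
      intro g w hw
      have e1 : W ≤ W.comap (σ g) := by
        rw [hW, Submodule.span_le]
        rintro _ ⟨i, rfl⟩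
        show σ g (β (j₀ (b i)) (j₁ (b i))) ∈ W
        rw [heq]
        exact hmem _
      exact e1 hw
    have hWd : finrank k W < 2 * d := by
      have e1 := finrank_range_le_card (R := k) (fun i => β (j₀ (b i)) (j₁ (b i)))
      rw [Fintype.card_fin] at e1
      have e2 : finrank k W ≤ finrank k R := e1
      omega
    have hW0 := hσ W hWs hWd
    intro r
    have e1 := hmem r
    rwa [hW0, Submodule.mem_bot] at e1
  -- `β (j₀ r) (j₁ r')` is alternating
  have halt : ∀ r r', β (j₀ r) (j₁ r') = β (j₀ r') (j₁ r) := by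
    intro r r'
    rw [← hneg (β (j₀ r') (j₁ r))]
    exact eq_neg_of_add_eq_zero_left (hD r r')
  -- the diagonal part
  have hdiag : ∀ r r', β (j₀ r) (j₀ r') = 0 ∧ β (j₁ r) (j₁ r') = 0 := by
    let B2 : R →ₗ[k] R →ₗ[k] (Fin 2 → V) := LinearMap.mk₂ k (fun r r' => ![β (j₀ r) (j₀ r'), β (j₁ r) (j₁ r')])
      (fun r s r' => by funext i; (revert i; simp only [_root_.Fin.forall_fin_succ, _root_.Nat.succ_eq_add_one, Nat.reduceAdd, _root_.map_add, _root_.LinearMap.add_apply, _root_.Pi.add_apply, Fin.isValue, _root_.Matrix.cons_val_zero, _root_.Matrix.cons_val_succ, _root_.Matrix.cons_val_fin_one, _root_.implies_true, _root_.and_self]))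
      (fun c r r' => by funext i; (revert i; simp only [_root_.Fin.forall_fin_succ, _root_.Nat.succ_eq_add_one, Nat.reduceAdd, _root_.map_smul, _root_.LinearMap.smul_apply, _root_.Pi.smul_apply, Fin.isValue, _root_.Matrix.cons_val_zero, _root_.Matrix.cons_val_succ, _root_.Matrix.cons_val_fin_one, _root_.implies_true, _root_.and_self]))
      (fun r r' s => by funext i; (revert i; simp only [_root_.Fin.forall_fin_succ, _root_.Nat.succ_eq_add_one, Nat.reduceAdd, _root_.map_add, _root_.Pi.add_apply, Fin.isValue, _root_.Matrix.cons_val_zero, _root_.Matrix.cons_val_succ, _root_.Matrix.cons_val_fin_one, _root_.implies_true, _root_.and_self]))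
      (fun c r r' => by funext i; (revert i; simp only [_root_.Fin.forall_fin_succ, _root_.Nat.succ_eq_add_one, Nat.reduceAdd, _root_.map_smul, _root_.Pi.smul_apply, Fin.isValue, _root_.Matrix.cons_val_zero, _root_.Matrix.cons_val_succ, _root_.Matrix.cons_val_fin_one, _root_.implies_true, _root_.and_self]))
    have hB0 : ∀ r r', B2 r r' 0 = β (j₀ r) (j₀ r') := fun r r' => rfl
    have hB1 : ∀ r r', B2 r r' 1 = β (j₁ r) (j₁ r') := fun r r' => rfl
    have hz := hρ (Fin 2 → V) (twRep σ X hT.one hT.mul) (hσ.tw hT.one hT.mul hT.det) B2 (fun r => by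
      funext i
      fin_cases i
      · exact hβ _
      · exact hβ _) (fun g r r' => by
      have e0 : σ g (β (j₀ r) (j₀ r')) = X g 0 0 ^ 2 • β (j₀ (ρ g r)) (j₀ (ρ g r')) +
          X g 1 0 ^ 2 • β (j₁ (ρ g r)) (j₁ (ρ g r')) := by
        rw [← hβg, hT.act₀, hT.act₀]
        simp only [map_add, map_smul, LinearMap.add_apply, LinearMap.smul_apply]
        rw [hsymm (j₁ (ρ g r)) (j₀ (ρ g r')), halt (ρ g r') (ρ g r)]
        have e1 : (2 * (X g 0 0 * X g 1 0)) = (0 : k) := by rw [h20, zero_mul]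
        calc _ = X g 0 0 ^ 2 • β (j₀ (ρ g r)) (j₀ (ρ g r')) + X g 1 0 ^ 2 • β (j₁ (ρ g r)) (j₁ (ρ g r')) +
              (2 * (X g 0 0 * X g 1 0)) • β (j₀ (ρ g r)) (j₁ (ρ g r')) := by module
          _ = _ := by rw [e1, zero_smul, add_zero]
      have e1 : σ g (β (j₁ r) (j₁ r')) = X g 0 1 ^ 2 • β (j₀ (ρ g r)) (j₀ (ρ g r')) +
          X g 1 1 ^ 2 • β (j₁ (ρ g r)) (j₁ (ρ g r')) := by
        rw [← hβg, hT.act₁, hT.act₁]
        simp only [map_add, map_smul, LinearMap.add_apply, LinearMap.smul_apply]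
        rw [hsymm (j₁ (ρ g r)) (j₀ (ρ g r')), halt (ρ g r') (ρ g r)]
        have e1 : (2 * (X g 0 1 * X g 1 1)) = (0 : k) := by rw [h20, zero_mul]
        calc _ = X g 0 1 ^ 2 • β (j₀ (ρ g r)) (j₀ (ρ g r')) + X g 1 1 ^ 2 • β (j₁ (ρ g r)) (j₁ (ρ g r')) +
              (2 * (X g 0 1 * X g 1 1)) • β (j₀ (ρ g r)) (j₁ (ρ g r')) := by module
          _ = _ := by rw [e1, zero_smul, add_zero]
      have hdd := det_sq (hT.det g)
      funext i
      fin_cases i
      · show B2 (ρ g r) (ρ g r') 0 = twMap σ X g (B2 r r') 0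
        rw [twMap_zero, hB0, hB0, hB1, e0, e1]
        have e3 : (X g 1 0 ^ 2 * X g 1 1 ^ 2 * 2) = (0 : k) := by rw [h20, mul_zero]
        calc β (j₀ (ρ g r)) (j₀ (ρ g r')) = (X g 0 0 ^ 2 * X g 1 1 ^ 2 + X g 0 1 ^ 2 * X g 1 0 ^ 2) •
              β (j₀ (ρ g r)) (j₀ (ρ g r')) + (X g 1 0 ^ 2 * X g 1 1 ^ 2 * 2) • β (j₁ (ρ g r)) (j₁ (ρ g r')) := by
              rw [hdd, one_smul, e3, zero_smul, add_zero]
          _ = _ := by module
      · show B2 (ρ g r) (ρ g r') 1 = twMap σ X g (B2 r r') 1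
        rw [twMap_one, hB1, hB0, hB1, e0, e1]
        have e3 : (X g 0 1 ^ 2 * X g 0 0 ^ 2 * 2) = (0 : k) := by rw [h20, mul_zero]
        calc β (j₁ (ρ g r)) (j₁ (ρ g r')) = (X g 0 0 ^ 2 * X g 1 1 ^ 2 + X g 0 1 ^ 2 * X g 1 0 ^ 2) •
              β (j₁ (ρ g r)) (j₁ (ρ g r')) + (X g 0 1 ^ 2 * X g 0 0 ^ 2 * 2) • β (j₀ (ρ g r)) (j₀ (ρ g r')) := by
              rw [hdd, one_smul, e3, zero_smul, add_zero]
          _ = _ := by module)
    intro r r'
    have e1 := hz r r'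
    exact ⟨congrFun e1 0, congrFun e1 1⟩
  -- the mixed part
  have hmix : ∀ r r', β (j₀ r) (j₁ r') = 0 := by
    let B3 : R →ₗ[k] R →ₗ[k] V := β.compl₁₂ j₀ j₁
    have hB3 : ∀ r r', B3 r r' = β (j₀ r) (j₁ r') := fun r r' => rfl
    intro r r'
    rw [← hB3]
    refine hρ V σ hσd B3 (fun r => hδ r) (fun g r r' => ?_) r r'
    rw [hB3, hB3, ← hβg, hT.act₀, hT.act₁]
    simp only [map_add, map_smul, LinearMap.add_apply, LinearMap.smul_apply]
    rw [(hdiag _ _).1, (hdiag _ _).2, hsymm (j₁ (ρ g r)) (j₀ (ρ g r')), halt (ρ g r') (ρ g r)]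
    calc β (j₀ (ρ g r)) (j₁ (ρ g r')) = (X g 0 0 * X g 1 1 + X g 0 1 * X g 1 0) • β (j₀ (ρ g r)) (j₁ (ρ g r')) := by
          rw [hdet', one_smul]
      _ = _ := by module
  intro e e'
  obtain ⟨r₀, r₁, rfl⟩ := hT.span e
  obtain ⟨s₀, s₁, rfl⟩ := hT.span e'
  simp only [map_add, LinearMap.add_apply]
  rw [(hdiag _ _).1, (hdiag _ _).2, hmix, hsymm, hmix]
  simp

end step

/-- 1-dimensional modules -/
theorem AltZ.of_one {R : Type x} [AddCommGroup R] [Module k R] {ρ : Representation k G R} {e : R}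
    (he : ∀ r, ∃ c : k, r = c • e) (d : ℕ) : AltZ.{u, v, w, x} ρ d := by
  intro V _ _ _ σ _ β hβ _ r r'
  obtain ⟨c, rfl⟩ := he r
  obtain ⟨c', rfl⟩ := he r'
  rw [map_smul, map_smul, LinearMap.smul_apply, hβ, smul_zero, smul_zero]

/-- isomorphic modules -/
theorem AltZ.of_iso {R : Type*} [AddCommGroup R] [Module k R] {ρ : Representation k G R} {R' : Type*}
    [AddCommGroup R'] [Module k R'] {ρ' : Representation k G R'} (φ : R ≃ₗ[k] R') (hφ : ∀ g r, φ (ρ g r) = ρ' g (φ r))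
    {d : ℕ} (h : AltZ.{u, v, w} ρ d) : AltZ.{u, v, w} ρ' d := by
  intro V _ _ _ σ hσ β hβ hβg r r'
  have h1 := h V σ hσ (β.compl₁₂ (φ : R →ₗ[k] R') (φ : R →ₗ[k] R')) (fun r => hβ _) (fun g r r' => by
    show β (φ (ρ g r)) (φ (ρ g r')) = σ g (β (φ r) (φ r'))
    rw [hφ, hφ, hβg]) (φ.symm r) (φ.symm r')
  have h2 : β (φ (φ.symm r)) (φ (φ.symm r')) = 0 := h1
  rwa [φ.apply_symm_apply, φ.apply_symm_apply] at h2

end Cfsg.Agent.R2.H6P2
end

-- part: R2/H6P2/FS
section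
/-!
# S5749, S5750, box P2: the irreducible modules of `SL₂(2^a)` as spaces of products of functions (helper6)

`ka ι n : K →+* k` : the homomorphism `t ↦ ι t ^ 2 ^ n`; `FS ι l` : the space of functions on `K²` spanned by the products of
the functions `κ_n (x)`, `κ_n (y)` (`n ∈ l`), i.e. the image of the tensor product of the twisted natural modules;
`Vb_eq` : `V_b = FS ι l` if `b = ∑ 2 ^ n` (`n ∈ l`, no repetitions); `altZ_irr` : the alternating lemma for irreducible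
modules.
-/

set_option autoImplicit false
set_option linter.unusedSectionVars false

namespace Cfsg.Agent.R2.H6P2

open Module Matrix
open Cfsg.Agent.H943.SL2Rel Cfsg.Agent.H943.SL2Mod Cfsg.Agent.H943.RepAdd
open Cfsg.Agent.R2.H28.SL2 Cfsg.Agent.R2.SL2

universe u v w

variable {k : Type u} [Field k] [CharP k 2] {K : Type w} [Field K]

/-- the twists of the embedding -/
noncomputable def ka (ι : K →+* k) (n : ℕ) : K →+* k := (iterateFrobenius k 2 n).comp ι

theorem ka_apply (ι : K →+* k) (n : ℕ) (t : K) : ka ι n t = ι t ^ 2 ^ n := by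
  rw [ka, RingHom.comp_apply, iterateFrobenius_def]

/-- multiplication with `κ (x)` -/
def mx (κ : K →+* k) : (K × K → k) →ₗ[k] (K × K → k) where
  toFun f z := κ z.1 * f z
  map_add' f f' := by funext z; exact mul_add _ _ _
  map_smul' c f := by funext z; exact mul_left_comm _ _ _

/-- multiplication with `κ (y)` -/
def my (κ : K →+* k) : (K × K → k) →ₗ[k] (K × K → k) where
  toFun f z := κ z.2 * f z
  map_add' f f' := by funext z; exact mul_add _ _ _
  map_smul' c f := by funext z; exact mul_left_comm _ _ _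

theorem mx_apply (κ : K →+* k) (f : K × K → k) (z : K × K) : mx κ f z = κ z.1 * f z := rfl

/-- the spaces of products -/
noncomputable def FS (ι : K →+* k) : List ℕ → Submodule k (K × K → k)
  | [] => Submodule.span k {fun _ => 1}
  | n :: l => (FS ι l).map (mx (ka ι n)) ⊔ (FS ι l).map (my (ka ι n))

theorem FS_nil (ι : K →+* k) : FS ι [] = Submodule.span k {fun _ => 1} := rfl

theorem FS_cons (ι : K →+* k) (n : ℕ) (l : List ℕ) :
    FS ι (n :: l) = (FS ι l).map (mx (ka ι n)) ⊔ (FS ι l).map (my (ka ι n)) := rfl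

theorem fRep_mx (κ : K →+* k) (g : _root_.Matrix.SpecialLinearGroup (Fin 2) K) (f : K × K → k) :
    fRep k K g (mx κ f) = κ (g.1 0 0) • mx κ (fRep k K g f) + κ (g.1 1 0) • my κ (fRep k K g f) := by
  funext z
  show κ (z.1 * g.1 0 0 + z.2 * g.1 1 0) * f _ = κ (g.1 0 0) * (κ z.1 * f _) + κ (g.1 1 0) * (κ z.2 * f _)
  rw [map_add, map_mul, map_mul]
  ring

theorem fRep_my (κ : K →+* k) (g : _root_.Matrix.SpecialLinearGroup (Fin 2) K) (f : K × K → k) :
    fRep k K g (my κ f) = κ (g.1 0 1) • mx κ (fRep k K g f) + κ (g.1 1 1) • my κ (fRep k K g f) := by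
  funext z
  show κ (z.1 * g.1 0 1 + z.2 * g.1 1 1) * f _ = κ (g.1 0 1) * (κ z.1 * f _) + κ (g.1 1 1) * (κ z.2 * f _)
  rw [map_add, map_mul, map_mul]
  ring

theorem stb_FS (ι : K →+* k) (l : List ℕ) : Stb (fRep k K) (FS ι l) := by
  induction l with
  | nil =>
    intro g w hw
    rw [FS_nil, Submodule.mem_span_singleton] at hw ⊢
    obtain ⟨c, rfl⟩ := hw
    exact ⟨c, rfl⟩
  | cons n l ih =>
    intro g w hw
    rw [FS_cons] at hw ⊢
    obtain ⟨a, ⟨f, hf, rfl⟩, b, ⟨f', hf', rfl⟩, rfl⟩ := Submodule.mem_sup.1 hw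
    have e0 : ∀ f ∈ FS ι l, mx (ka ι n) f ∈ (FS ι l).map (mx (ka ι n)) ⊔ (FS ι l).map (my (ka ι n)) :=
      fun f hf => Submodule.mem_sup_left ⟨f, hf, rfl⟩
    have e1 : ∀ f ∈ FS ι l, my (ka ι n) f ∈ (FS ι l).map (mx (ka ι n)) ⊔ (FS ι l).map (my (ka ι n)) :=
      fun f hf => Submodule.mem_sup_right ⟨f, hf, rfl⟩
    rw [map_add, fRep_mx, fRep_my]
    exact Submodule.add_mem _
      (Submodule.add_mem _ (Submodule.smul_mem _ _ (e0 _ (ih g f hf))) (Submodule.smul_mem _ _ (e1 _ (ih g f hf))))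
      (Submodule.add_mem _ (Submodule.smul_mem _ _ (e0 _ (ih g f' hf'))) (Submodule.smul_mem _ _ (e1 _ (ih g f' hf'))))

/-- the representation on `FS ι l` -/
noncomputable abbrev fs (ι : K →+* k) (l : List ℕ) : Representation k (_root_.Matrix.SpecialLinearGroup (Fin 2) K) (FS ι l) :=
  subRep (fRep k K) (FS ι l) (stb_FS ι l)

theorem finite_FS (ι : K →+* k) (l : List ℕ) : FiniteDimensional k (FS ι l) := by
  induction l with
  | nil =>
    rw [FS_nil]
    infer_instance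
  | cons n l ih =>
    rw [FS_cons]
    infer_instance

theorem finrank_FS_le (ι : K →+* k) (l : List ℕ) : finrank k (FS ι l) ≤ 2 ^ l.length := by
  induction l with
  | nil =>
    rw [FS_nil]
    exact finrank_span_le_card _ |>.trans (by simp)
  | cons n l ih =>
    have := finite_FS ι l
    rw [FS_cons, List.length_cons, pow_succ]
    have e1 := Submodule.finrank_add_le_finrank_add_finrank ((FS ι l).map (mx (ka ι n))) ((FS ι l).map (my (ka ι n)))
    have e2 := Submodule.finrank_map_le (mx (ka ι n)) (FS ι l)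
    have e3 := Submodule.finrank_map_le (my (ka ι n)) (FS ι l)
    omega

/-- the first factor -/
noncomputable def jx (ι : K →+* k) (n : ℕ) (l : List ℕ) : FS ι l →ₗ[k] FS ι (n :: l) :=
  ((mx (ka ι n)) ∘ₗ (FS ι l).subtype).codRestrict _ fun f => Submodule.mem_sup_left ⟨f, f.2, rfl⟩

noncomputable def jy (ι : K →+* k) (n : ℕ) (l : List ℕ) : FS ι l →ₗ[k] FS ι (n :: l) :=
  ((my (ka ι n)) ∘ₗ (FS ι l).subtype).codRestrict _ fun f => Submodule.mem_sup_right ⟨f, f.2, rfl⟩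

theorem tens_FS (ι : K →+* k) (n : ℕ) (l : List ℕ) :
    Tens (fun g : _root_.Matrix.SpecialLinearGroup (Fin 2) K => g.1.map (ka ι n)) (fs ι l) (fs ι (n :: l)) (jx ι n l) (jy ι n l) where
  det g := by
    simp only [Matrix.map_apply, ← map_mul, ← map_sub]
    have h := g.2
    rw [Matrix.det_fin_two] at h
    rw [h, map_one]
  one := by
    show (1 : Matrix (Fin 2) (Fin 2) K).map (ka ι n) = 1
    rw [Matrix.map_one _ (map_zero _) (map_one _)]
  mul g h := by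
    show (g.1 * h.1).map (ka ι n) = _
    rw [Matrix.map_mul]
  act₀ g r := Subtype.ext (fRep_mx (ka ι n) g r)
  act₁ g r := Subtype.ext (fRep_my (ka ι n) g r)
  span := by
    rintro ⟨e, he⟩
    obtain ⟨a, ⟨f, hf, rfl⟩, b, ⟨f', hf', rfl⟩, rfl⟩ := Submodule.mem_sup.1 he
    exact ⟨⟨f, hf⟩, ⟨f', hf'⟩, rfl⟩

/-- **the alternating lemma for the tensor products** -/
theorem altZ_FS (ι : K →+* k) (l : List ℕ) : AltZ.{u, v} (fs ι l) (2 ^ l.length) := by
  induction l with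
  | nil =>
    refine AltZ.of_one (e := ⟨fun _ => 1, Submodule.mem_span_singleton_self _⟩) (fun r => ?_) _
    obtain ⟨c, hc⟩ := Submodule.mem_span_singleton.1 r.2
    exact ⟨c, Subtype.ext hc.symm⟩
  | cons n l ih =>
    have := finite_FS ι l
    rw [List.length_cons, pow_succ, mul_comm]
    exact ih.step (finrank_FS_le ι l) Nat.one_le_two_pow (tens_FS ι n l)

/-- the sum of the powers of two -/
def psm (l : List ℕ) : ℕ := (l.map fun i => 2 ^ i).sum

theorem psm_nil : psm [] = 0 := rfl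

theorem psm_cons (n : ℕ) (l : List ℕ) : psm (n :: l) = 2 ^ n + psm l := by
  rw [psm, psm, List.map_cons, List.sum_cons]

theorem psm_toFinset {l : List ℕ} (hl : l.Nodup) : psm l = ∑ i ∈ l.toFinset, 2 ^ i := by
  rw [psm, List.sum_toFinset _ hl]

theorem psm_inj {l l' : List ℕ} (hl : l.Nodup) (hl' : l'.Nodup) (h : psm l = psm l') : l.Perm l' := by
  rw [psm_toFinset hl, psm_toFinset hl'] at h
  have h1 : l.toFinset = l'.toFinset := by
    have e1 := Finset.toFinset_bitIndices_sum_two_pow l.toFinset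
    have e2 := Finset.toFinset_bitIndices_sum_two_pow l'.toFinset
    rw [← e1, ← e2, h]
  exact (List.perm_ext_iff_of_nodup hl hl').2 fun a => by
    rw [← List.mem_toFinset, ← List.mem_toFinset, h1]

instance fact2 : Fact (Nat.Prime 2) := ⟨Nat.prime_two⟩

theorem exists_list (b : ℕ) : ∃ l : List ℕ, l.Nodup ∧ psm l = b ∧ (Bp 2 b).card = 2 ^ l.length := by
  obtain ⟨z, hz, hn, hs⟩ := exists_pos (p := 2) b
  have h1 : ∀ x ∈ z, x.1 = 1 := by
    intro x hx
    have h2 : x.1 ∈ typ 2 b := by rw [← hz]; exact Multiset.mem_map_of_mem _ hx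
    have h3 := mem_typ (p := 2) (by norm_num) h2
    omega
  refine ⟨(z.map Prod.snd).toList, ?_, ?_, ?_⟩
  · rw [← Multiset.coe_nodup, Multiset.coe_toList]
    exact hn
  · have h2 : psm (z.map Prod.snd).toList = ((z.map Prod.snd).map fun i => 2 ^ i).sum := by
      rw [psm]
      conv_rhs => rw [← Multiset.coe_toList (z.map Prod.snd), Multiset.map_coe, Multiset.sum_coe]
    rw [h2, Multiset.map_map, ← hs]
    congr 1
    refine Multiset.map_congr rfl fun x hx => ?_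
    rw [Function.comp_apply, h1 x hx, one_mul]
  · rw [card_Bp, Multiset.length_toList, Multiset.card_map]
    have h2 : typ 2 b = Multiset.replicate (Multiset.card z) 1 := by
      rw [← hz, Multiset.eq_replicate]
      refine ⟨Multiset.card_map _ _, fun d hd => ?_⟩
      obtain ⟨x, hx, rfl⟩ := Multiset.mem_map.1 hd
      exact h1 x hx
    rw [h2, pr, Multiset.map_replicate, Multiset.prod_replicate]

theorem card_Bp_psm {l : List ℕ} (hl : l.Nodup) : (Bp 2 (psm l)).card = 2 ^ l.length := by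
  obtain ⟨l', h1, h2, h3⟩ := exists_list (psm l)
  rw [h3, (psm_inj h1 hl h2).length_eq]

section vb

variable [DecidableEq k] [Fintype K] [DecidableEq K] [CharP K 2] (ι : K →+* k)

theorem mon_mem_FS (l : List ℕ) : mon ι (psm l) (psm l) ∈ FS ι l := by
  induction l with
  | nil =>
    refine Submodule.mem_span_singleton.2 ⟨1, ?_⟩
    funext z
    rw [mon_self, psm_nil, pow_zero, one_smul]
  | cons n l ih =>
    have h1 : mon ι (psm (n :: l)) (psm (n :: l)) = mx (ka ι n) (mon ι (psm l) (psm l)) := by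
      funext z
      rw [mx_apply, mon_self, mon_self, psm_cons, pow_add, ka_apply]
    rw [h1, FS_cons]
    exact Submodule.mem_sup_left ⟨_, ih, rfl⟩

theorem Vb_le_FS (l : List ℕ) : Vb ι (psm l) ≤ FS ι l := by
  refine MM_le _ (stb_FS ι l) ?_
  rw [Db, Submodule.span_le, Set.singleton_subset_iff]
  exact mon_mem_FS ι l

theorem finrank_Vb_psm {l : List ℕ} (hl : l.Nodup) (hb : psm l ≤ Fintype.card K - 1) :
    finrank k (Vb ι (psm l)) = 2 ^ l.length := by
  rw [Cfsg.Agent.H179.SLC.finrank_Vb ι 2 ι.injective (neg_one_pow_Q ι) hb, Bf_eq (p := 2), card_Bp_psm hl]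

/-- **`V_b` as a tensor product** -/
theorem Vb_eq {l : List ℕ} (hl : l.Nodup) (hb : psm l ≤ Fintype.card K - 1) : Vb ι (psm l) = FS ι l := by
  have := finite_FS ι l
  refine Submodule.eq_of_le_of_finrank_le (Vb_le_FS ι l) ?_
  rw [finrank_Vb_psm ι hl hb]
  exact finrank_FS_le ι l

theorem finrank_FS {l : List ℕ} (hl : l.Nodup) (hb : psm l ≤ Fintype.card K - 1) :
    finrank k (FS ι l) = 2 ^ l.length := by
  rw [← Vb_eq ι hl hb, finrank_Vb_psm ι hl hb]

/-- `FS ι l` as `V_b` -/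
theorem isV_FS {l : List ℕ} (hl : l.Nodup) (hb : psm l ≤ Fintype.card K - 1) : IsV ι 2 (fs ι l) (psm l) :=
  ⟨hb, LinearEquiv.ofEq _ _ (Vb_eq ι hl hb), fun _ _ => Subtype.ext rfl⟩

/-- the modules isomorphic to `V_b` -/
theorem exists_iso_FS {V : Type*} [AddCommGroup V] [Module k V] {ρ : Representation k (_root_.Matrix.SpecialLinearGroup (Fin 2) K) V}
    {b : ℕ} (h : IsV ι 2 ρ b) : ∃ l : List ℕ, l.Nodup ∧ psm l = b ∧ psm l ≤ Fintype.card K - 1 ∧
      finrank k V = 2 ^ l.length ∧ ∃ φ : FS ι l ≃ₗ[k] V, ∀ g x, φ (fs ι l g x) = ρ g (φ x) := by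
  obtain ⟨l, hl, rfl, -⟩ := exists_list b
  obtain ⟨hb, φ, hφ⟩ := h
  refine ⟨l, hl, rfl, hb, ?_, (LinearEquiv.ofEq _ _ (Vb_eq ι hl hb)).symm.trans φ, fun g x => ?_⟩
  · rw [← φ.finrank_eq, finrank_Vb_psm ι hl hb]
  · rw [LinearEquiv.trans_apply, LinearEquiv.trans_apply, ← hφ]
    rfl

include ι in
/-- **the alternating lemma for irreducible modules** -/
theorem altZ_irr [IsAlgClosed k] {V : Type*} [AddCommGroup V] [Module k V] [FiniteDimensional k V]
    {ρ : Representation k (_root_.Matrix.SpecialLinearGroup (Fin 2) K) V} (h : Irrd ρ) :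
    AltZ.{u, v} ρ (finrank k V) ∧ ∃ n, finrank k V = 2 ^ n := by
  obtain ⟨b, hb⟩ := (Sy ι 2).ex ρ h
  obtain ⟨l, hl, -, hq, hd, φ, hφ⟩ := exists_iso_FS ι hb
  rw [hd]
  exact ⟨(altZ_FS ι l).of_iso φ hφ, l.length, rfl⟩

end vb

end Cfsg.Agent.R2.H6P2
end

private theorem dce_5ba3495e75f5 : _root_.True := by
  try have : _root_.True := by simp only [_root_.Cfsg.Agent.R2.H6P2.ka.congr_simp]
  try have : _root_.True := by simp only [_root_.Cfsg.Agent.R2.H6P2.ka.eq_1]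
  try have : _root_.True := by simp only [_root_.Cfsg.Agent.R2.SL2.pr.eq_1]
  try have : _root_.True := by simp only [_root_.Cfsg.Agent.H943.SL2Mod.Db.eq_1]
  try have : _root_.True := by simp only [_root_.Cfsg.Agent.R2.H6P2.psm.eq_1]
  exact _root_.True.intro
end
end
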